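import Groth.Agent.Misc10.FrobDeg

/-! The residue field map of the geometric Frobenius of a base change from a finite field. -/

set_option autoImplicit false

universe u

namespace Groth.Misc10.FrobResidue

open AlgebraicGeometry CategoryTheory

/-- The two legs of a pushout square of commutative rings generate. -/
lemma closure_eq_top_of_isPushout {A B C D : CommRingCat.{u}} {a : A ⟶ B} {b : A ⟶ C} {i : B ⟶ D}
    {j : C ⟶ D} (h : IsPushout a b i j) :
    Subring.closure (Set.range i.hom ∪ Set.range j.hom) = ⊤ := by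
  set S := Subring.closure (Set.range i.hom ∪ Set.range j.hom)
  let i' : B ⟶ CommRingCat.of S := CommRingCat.ofHom (i.hom.codRestrict S fun x => Subring.subset_closure (Or.inl ⟨x, rfl⟩))
  let j' : C ⟶ CommRingCat.of S := CommRingCat.ofHom (j.hom.codRestrict S fun x => Subring.subset_closure (Or.inr ⟨x, rfl⟩))
  have w : a ≫ i' = b ≫ j' := by
    ext x
    exact congrArg (fun g : A ⟶ D => g.hom x) h.w
  have he : h.desc i' j' w ≫ CommRingCat.ofHom S.subtype = 𝟙 D :=
    h.hom_ext (by rw [h.inl_desc_assoc, Category.comp_id]; rfl) (by rw [h.inr_desc_assoc, Category.comp_id]; rfl)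
  rw [eq_top_iff]
  intro x _
  rw [← show S.subtype ((h.desc i' j' w).hom x) = x from congrArg (fun g : D ⟶ D => g.hom x) he]
  exact Subtype.property _

lemma exists_div_of_isAffineOpen {X : Scheme.{u}} {V : X.Opens} (hV : IsAffineOpen V) (w : X) (hw : w ∈ V)
    (z : X.residueField w) : ∃ a b : Γ(X, V), z = X.evaluation V w hw a / X.evaluation V w hw b := by
  obtain ⟨s, rfl⟩ := X.residue_surjective w z
  letI := TopCat.Presheaf.algebra_section_stalk X.presheaf ⟨w, hw⟩
  have := hV.isLocalization_stalk ⟨w, hw⟩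
  obtain ⟨⟨a, b⟩, h⟩ := IsLocalization.surj (hV.primeIdealOf ⟨w, hw⟩).asIdeal.primeCompl s
  refine ⟨a, b, ?_⟩
  have hb : X.evaluation V w hw (b : Γ(X, V)) ≠ 0 := fun h0 => by
    have hu : IsUnit (algebraMap Γ(X, V) (X.presheaf.stalk w) b) := IsLocalization.map_units _ b
    exact (hu.map (X.residue w).hom).ne_zero h0
  rw [eq_div_iff hb]
  exact ((map_mul _ _ _).symm.trans (congrArg (X.residue w).hom h))

lemma evaluation_map {X : Scheme.{u}} {U V : X.Opens} (h : V ≤ U) (w : X) (hw : w ∈ V) (a : Γ(X, U)) :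
    X.evaluation V w hw (X.presheaf.map (homOfLE h).op a) = X.evaluation U w (h hw) a :=
  congrArg (X.residue w) (X.presheaf.germ_res_apply _ w hw a)

lemma residueFieldMap_evaluation {X Y : Scheme.{u}} (f : X ⟶ Y) {U : Y.Opens} {V : X.Opens} (e : V ≤ f ⁻¹ᵁ U)
    (w : X) (hw : w ∈ V) (a : Γ(Y, U)) :
    f.residueFieldMap w (Y.evaluation U (f w) (e hw) a) = X.evaluation V w hw (f.appLE U V e a) := by
  exact (Scheme.evaluation_naturality_apply f w (e hw) a).trans (evaluation_map e w hw _).symm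

/-- The residue field map of the Frobenius of a base change is the `q`-power map. -/
theorem exists_residueFieldMap_eq_pow {k₀ k : Type u} [Field k₀] [Field k] (σ : k₀ →+* k)
    (p r : ℕ) [ExpChar k p] [PerfectRing k p]
    {X : Scheme.{u}} (f : X ⟶ Spec (CommRingCat.of k₀)) (FX : X ⟶ X) (hle : ∀ U : X.Opens, U ≤ FX ⁻¹ᵁ U)
    (hFapp : ∀ (U : X.Opens) (s : Γ(X, U)), (FX.appLE U U (hle U)).hom s = s ^ (p ^ r))
    {Y : Scheme.{u}} (h : Y ⟶ Spec (CommRingCat.of k)) (π : Y ⟶ X)
    (hπ : IsPullback π h f (Spec.map (CommRingCat.ofHom σ)))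
    (hFb : FX.base = 𝟙 _) (F : Y ⟶ Y) (hF : F ≫ π = π ≫ FX) (hFh : F ≫ h = h) (w : Y)
    [ExpChar (Y.residueField w) p] :
    (F.residueFieldMap w).hom.fieldRange = (iterateFrobenius (Y.residueField w) p r).fieldRange := by
  obtain ⟨U, hU, hwU, -⟩ := exists_isAffineOpen_mem_and_subset (U := ⊤) (show π w ∈ (⊤ : X.Opens) from trivial)
  set V : Y.Opens := π ⁻¹ᵁ U ⊓ h ⁻¹ᵁ ⊤ with hVdef
  have hpush := (isIso_pushoutSection_iff hπ (US := ⊤) (UT := ⊤) (UX := U) (UY := V) le_top le_top rfl).1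
    (isIso_pushoutSection_of_isAffineOpen hπ _ _ _ (isAffineOpen_top _) (isAffineOpen_top _) hU)
  have : IsAffine U := hU
  have : IsAffine (⊤ : (Spec (CommRingCat.of k)).Opens) := isAffineOpen_top _
  have : IsAffine (⊤ : (Spec (CommRingCat.of k₀)).Opens) := isAffineOpen_top _
  have hV : IsAffineOpen V := .of_isIso (Scheme.Hom.isPullback_resLE hπ (US := ⊤) (UT := ⊤) (UX := U) (UY := V) le_top le_top rfl).isoPullback.hom
  have hw : w ∈ V := ⟨hwU, trivial⟩
  have hFV : V ≤ F ⁻¹ᵁ V := by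
    intro y hy
    refine ⟨?_, trivial⟩
    have he : π (F y) = π y := by
      rw [← Scheme.Hom.comp_apply, hF, Scheme.Hom.comp_apply]
      exact congrArg (fun g : X.carrier ⟶ X.carrier => g (π y)) hFb
    show π (F y) ∈ U
    rw [he]; exact hy.1
  set ev := Y.evaluation V w hw
  set ev' := Y.evaluation V (F w) (hFV hw)
  set Φ := (F.residueFieldMap w).hom
  have hΦ : ∀ a, Φ (ev' a) = ev (F.appLE V V hFV a) := residueFieldMap_evaluation F hFV w hw
  have hπF : ∀ s, F.appLE V V hFV (π.appLE U V (by exact inf_le_left) s) = (π.appLE U V inf_le_left s) ^ (p ^ r) := by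
    intro s
    have e : π.appLE U V inf_le_left ≫ F.appLE V V hFV = FX.appLE U U (hle U) ≫ π.appLE U V inf_le_left := by
      rw [Scheme.Hom.appLE_comp_appLE, Scheme.Hom.appLE_comp_appLE]
      simp only [hF]
    rw [← map_pow, ← hFapp]
    exact congrArg (fun g : Γ(X, U) ⟶ Γ(Y, V) => g s) e
  have hcF : ∀ c, F.appLE V V hFV (h.appLE ⊤ V inf_le_right c) = h.appLE ⊤ V inf_le_right c := by
    intro c
    have e : h.appLE ⊤ V inf_le_right ≫ F.appLE V V hFV = h.appLE ⊤ V inf_le_right := by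
      rw [Scheme.Hom.appLE_comp_appLE]
      simp only [hFh]
    exact congrArg (fun g : Γ(Spec (CommRingCat.of k), ⊤) ⟶ Γ(Y, V) => g c) e
  have hperf : ∀ c : Γ(Spec (CommRingCat.of k), ⊤), ∃ d, d ^ (p ^ r) = c := by
    intro c
    obtain ⟨d, hd⟩ := (bijective_iterateFrobenius k p (n := r)).2 ((Scheme.ΓSpecIso (CommRingCat.of k)).hom c)
    refine ⟨(Scheme.ΓSpecIso (CommRingCat.of k)).inv d, ?_⟩
    rw [← map_pow, ← iterateFrobenius_def p r d, hd]
    exact congrArg (fun g : Γ(Spec (CommRingCat.of k), ⊤) ⟶ _ => g c) (Scheme.ΓSpecIso (CommRingCat.of k)).hom_inv_id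
  have hgen := closure_eq_top_of_isPushout hpush
  have hall : ∀ P : Subring Γ(Y, V), (∀ s, π.appLE U V inf_le_left s ∈ P) →
      (∀ c, h.appLE ⊤ V inf_le_right c ∈ P) → ∀ a, a ∈ P := by
    intro P hp hc a
    have hle' : Subring.closure (Set.range (π.appLE U V inf_le_left).hom ∪ Set.range (h.appLE ⊤ V inf_le_right).hom) ≤ P :=
      Subring.closure_le.2 (by rintro _ (⟨s, rfl⟩ | ⟨c, rfl⟩); exacts [hp s, hc c])
    exact hle' (hgen ▸ Subring.mem_top a)
  -- all `q`-th powers are in the image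
  have h1 : ∀ a : Γ(Y, V), ev a ^ (p ^ r) ∈ Φ.fieldRange := by
    intro a
    have ha := hall (Subring.comap ((iterateFrobenius (Y.residueField w) p r).comp ev.hom) Φ.fieldRange.toSubring)
      (fun s => ⟨ev' (π.appLE U V inf_le_left s), by
        rw [hΦ, hπF, map_pow]; simp [iterateFrobenius_def]⟩)
      (fun c => ⟨ev' (h.appLE ⊤ V inf_le_right (c ^ (p ^ r))), by
        rw [hΦ, hcF, map_pow, map_pow]; simp [iterateFrobenius_def]⟩) a
    simpa [iterateFrobenius_def] using ha
  -- the image consists of `q`-th powers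
  have h2 : ∀ a : Γ(Y, V), Φ (ev' a) ∈ (iterateFrobenius (Y.residueField w) p r).fieldRange := by
    intro a
    exact hall (Subring.comap (Φ.comp ev'.hom) (iterateFrobenius (Y.residueField w) p r).fieldRange.toSubring)
      (fun s => ⟨ev (π.appLE U V inf_le_left s), by
        show iterateFrobenius _ p r (ev _) = Φ (ev' _)
        rw [hΦ, hπF, map_pow, iterateFrobenius_def]⟩)
      (fun c => by
        obtain ⟨d, rfl⟩ := hperf c
        refine ⟨ev (h.appLE ⊤ V inf_le_right d), ?_⟩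
        show iterateFrobenius _ p r (ev _) = Φ (ev' _)
        rw [hΦ, hcF, map_pow, map_pow, iterateFrobenius_def]) a
  refine le_antisymm ?_ ?_
  · rintro _ ⟨z, rfl⟩
    obtain ⟨a, b, rfl⟩ := exists_div_of_isAffineOpen hV (F w) (hFV hw) z
    rw [map_div₀]
    exact div_mem (h2 a) (h2 b)
  · rintro _ ⟨z, rfl⟩
    obtain ⟨a, b, rfl⟩ := exists_div_of_isAffineOpen hV w hw z
    rw [map_div₀, iterateFrobenius_def, iterateFrobenius_def]
    exact div_mem (h1 a) (h1 b)

end Groth.Misc10.FrobResidue
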