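import Groth.Prelude.Def_W4c2invhilbsl2HJ
import Mathlib.Tactic

/-! Integer facts behind the graded rings `wt3 p q m` and their Hirzebruch–Jung bookkeeping. -/

set_option autoImplicit false

namespace Groth.Misc10

open W4c2invhilbsl2

/-- `R₀ = u`, `R₁ = v`, `Rᵢ₊₂ = cᵢ₊₁ Rᵢ₊₁ - Rᵢ`. -/
def hjR (u v : ℤ) (c : List ℤ) : ℕ → ℤ
  | 0 => u
  | 1 => v
  | i + 2 => c.getD i 0 * hjR u v c (i + 1) - hjR u v c i

lemma hjR_cons (u v b : ℤ) (l : List ℤ) : ∀ i, hjR u v (b :: l) (i + 1) = hjR v (b * v - u) l i := by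
  intro i
  induction i using Nat.strong_induction_on with
  | _ i ih =>
    match i with
    | 0 => rfl
    | 1 => simp [hjR]
    | i + 2 =>
      show (b :: l).getD (i + 1) 0 * hjR u v (b :: l) (i + 2) - hjR u v (b :: l) (i + 1) =
        l.getD i 0 * hjR v (b * v - u) l (i + 1) - hjR v (b * v - u) l i
      rw [ih (i + 1) (by omega), ih i (by omega), List.getD_cons_succ]

lemma hjR_eq (t b : ℤ) (c : List ℤ) : ∀ i, hjR b t c i = t * hjP c i - b * hjQ c i := by
  intro i
  induction i using Nat.strong_induction_on with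
  | _ i ih =>
    match i with
    | 0 => simp [hjR, hjP, hjQ]
    | 1 => simp [hjR, hjP, hjQ]
    | i + 2 =>
      simp only [hjR, hjP, hjQ]
      rw [ih (i + 1) (by omega), ih i (by omega)]
      ring

lemma hjVal_gt_one : ∀ (l : List ℤ), (∀ x ∈ l, (2 : ℤ) ≤ x) → l ≠ [] → 1 < HJFrac.hjVal l := by
  intro l
  induction l with
  | nil => simp
  | cons b l ih =>
    intro h _
    have hb : (2 : ℚ) ≤ (b : ℚ) := by exact_mod_cast h b (by simp)
    show (1 : ℚ) < (b : ℚ) - (HJFrac.hjVal l)⁻¹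
    rcases eq_or_ne l [] with rfl | hl
    · simp only [HJFrac.hjVal, inv_zero]; linarith
    · have h1 := ih (fun x hx => h x (by simp [hx])) hl
      have h2 : (HJFrac.hjVal l)⁻¹ < 1 := inv_lt_one_of_one_lt₀ h1
      linarith

/-- The remainders of the negative continued fraction expansion of `u / v`. -/
lemma hjR_spec : ∀ (c : List ℤ) (u v : ℤ), (∀ x ∈ c, (2 : ℤ) ≤ x) → 0 < v → 0 < u →
    HJFrac.hjVal c = (u : ℚ) / v →
    v < u ∧ hjR u v c (c.length + 1) = 0 ∧
      hjR u v c c.length ∣ u ∧ hjR u v c c.length ∣ v ∧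
      (∀ i, i ≤ c.length → hjR u v c (i + 1) < hjR u v c i) := by
  intro c
  induction c with
  | nil =>
    intro u v _ hv hu hval
    exfalso
    have : (0 : ℚ) < (u : ℚ) / v := by positivity
    simp only [HJFrac.hjVal] at hval
    linarith
  | cons b l ih =>
    intro u v h2 hv hu hval
    have hvu : v < u := by
      have := hjVal_gt_one (b :: l) h2 (by simp)
      rw [hval, lt_div_iff₀ (by exact_mod_cast hv), one_mul] at this
      exact_mod_cast this
    refine ⟨hvu, ?_⟩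
    have hvq : (0 : ℚ) < v := by exact_mod_cast hv
    have hinv : (HJFrac.hjVal l)⁻¹ = ((b * v - u : ℤ) : ℚ) / v := by
      have h : (b : ℚ) - (HJFrac.hjVal l)⁻¹ = (u : ℚ) / v := hval
      push_cast
      rw [sub_div, mul_div_assoc, div_self hvq.ne', mul_one, ← h]; ring
    rcases eq_or_ne l [] with rfl | hl
    · have hr : b * v - u = 0 := by
        simp only [HJFrac.hjVal, inv_zero] at hinv
        rw [eq_comm, div_eq_zero_iff] at hinv
        rcases hinv with h | h
        · exact_mod_cast h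
        · exact absurd h hvq.ne'
      refine ⟨?_, ?_, ?_, ?_⟩
      · simpa [hjR] using hr
      · exact ⟨b, by simp [hjR]; linarith⟩
      · exact ⟨1, by simp [hjR]⟩
      · intro i hi
        simp at hi
        interval_cases i
        · simpa [hjR] using hvu
        · simp [hjR]; linarith
    · have hl2 : ∀ x ∈ l, (2 : ℤ) ≤ x := fun x hx => h2 x (by simp [hx])
      have h1 := hjVal_gt_one l hl2 hl
      have hrpos : 0 < b * v - u := by
        have : (0 : ℚ) < ((b * v - u : ℤ) : ℚ) / v := hinv ▸ inv_pos.2 (by linarith)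
        rcases div_pos_iff.1 this with ⟨h, -⟩ | ⟨-, h⟩
        · exact_mod_cast h
        · linarith
      have hlval : HJFrac.hjVal l = (v : ℚ) / ((b * v - u : ℤ) : ℚ) := by
        rw [← inv_inv (HJFrac.hjVal l), hinv, inv_div]
      obtain ⟨hlt, e0, e1, e2, e3⟩ := ih v (b * v - u) hl2 hrpos hv hlval
      refine ⟨?_, ?_, ?_, ?_⟩
      · rw [List.length_cons, hjR_cons]; exact e0
      · rw [List.length_cons, hjR_cons]
        have h := (e1.mul_left b).sub e2
        rwa [show b * v - (b * v - u) = u by ring] at h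
      · rw [List.length_cons, hjR_cons]; exact e1
      · intro i hi
        match i with
        | 0 => exact hvu
        | i + 1 =>
          rw [hjR_cons, hjR_cons]
          exact e3 i (by simpa using hi)

/-! ### the data `D = q - p`, `g`, `b`, `t` -/

lemma gcdK_pos {p q m : ℕ} (hm : 0 < m) : 0 < gcdK p q m := Nat.gcd_pos_of_pos_left _ hm

lemma gcdK_mul_bB {p q m : ℕ} : gcdK p q m * bB p q m = q - p :=
  Nat.mul_div_cancel' (Nat.gcd_dvd_right _ _)

lemma coprime_p_D {p q : ℕ} (hpq : p < q) (hcop : Nat.Coprime p q) : Nat.Coprime p (q - p) :=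
  (Nat.coprime_sub_self_right hpq.le).2 hcop

lemma gcdK_dvd_rem {p q m : ℕ} : gcdK p q m ∣ m * p % (q - p) :=
  (Nat.dvd_mod_iff (Nat.gcd_dvd_right _ _)).2 ((Nat.gcd_dvd_left _ _).mul_right _)

lemma gcdK_mul_tT {p q m : ℕ} : gcdK p q m * tT p q m = q - p - m * p % (q - p) :=
  Nat.mul_div_cancel' (Nat.dvd_sub (Nat.gcd_dvd_right _ _) gcdK_dvd_rem)

lemma rem_pos {p q m : ℕ} (hpq : p < q) (hcop : Nat.Coprime p q) (hnt : ¬ (q - p ∣ m)) :
    0 < m * p % (q - p) := by
  by_contra h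
  exact hnt ((coprime_p_D hpq hcop).symm.dvd_of_dvd_mul_right (Nat.dvd_of_mod_eq_zero (by omega)))

lemma tT_pos {p q m : ℕ} (hpq : p < q) : 0 < tT p q m := by
  by_contra h
  have h1 := gcdK_mul_tT (p := p) (q := q) (m := m)
  have h2 := Nat.mod_lt (m * p) (show q - p > 0 by omega)
  rw [show tT p q m = 0 by omega, mul_zero] at h1
  omega

lemma tT_lt_bB {p q m : ℕ} (hpq : p < q) (hcop : Nat.Coprime p q) (hm : 0 < m)
    (hnt : ¬ (q - p ∣ m)) : tT p q m < bB p q m := by
  have h : gcdK p q m * tT p q m < gcdK p q m * bB p q m := by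
    rw [gcdK_mul_tT, gcdK_mul_bB]; have := rem_pos hpq hcop hnt; omega
  exact Nat.lt_of_mul_lt_mul_left h

lemma dvd_one_of_dvd_bB_tT {p q m : ℕ} (hpq : p < q) (hcop : Nat.Coprime p q) (hm : 0 < m) {r : ℤ}
    (h1 : r ∣ (bB p q m : ℤ)) (h2 : r ∣ (tT p q m : ℤ)) : r ∣ 1 := by
  obtain ⟨x, hx⟩ : r.natAbs ∣ bB p q m := Int.natAbs_dvd_natAbs.2 h1
  obtain ⟨y, hy⟩ : r.natAbs ∣ tT p q m := Int.natAbs_dvd_natAbs.2 h2
  set a := r.natAbs
  set g := gcdK p q m with hg
  have hD : g * a ∣ q - p := ⟨x, by rw [← gcdK_mul_bB (m := m), hx, ← hg]; ring⟩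
  have hrem : g * a ∣ m * p % (q - p) := by
    have h3 : q - p - (q - p - m * p % (q - p)) = m * p % (q - p) := by
      have := (Nat.mod_lt (m * p) (show q - p > 0 by omega)).le; omega
    rw [← h3]
    exact Nat.dvd_sub hD ⟨y, by rw [← gcdK_mul_tT, hy, ← hg]; ring⟩
  have hmp : g * a ∣ m * p := (Nat.dvd_mod_iff hD).1 hrem
  have hc : Nat.Coprime (g * a) p := ((coprime_p_D hpq hcop).of_dvd_right hD).symm
  have h4 : g * a ∣ g := Nat.dvd_gcd (hc.dvd_of_dvd_mul_right hmp) hD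
  have h5 : a = 1 := by
    have h6 := Nat.le_of_dvd (gcdK_pos hm) h4
    rcases Nat.eq_zero_or_pos a with h0 | h0
    · rw [h0, mul_zero, zero_dvd_iff] at h4
      exact absurd h4 (gcdK_pos hm).ne'
    · have := gcdK_pos (p := p) (q := q) hm
      nlinarith
  exact Int.natAbs_dvd_natAbs.1 (by simp [a] at h5; simp [h5])

/-- `D (α + 1) - p m = g t`. -/
lemma D_mul_alpha_succ {p q m : ℕ} (hpq : p < q) :
    ((q : ℤ) - p) * ((alpha p q m : ℤ) + 1) - (p : ℤ) * m = (gcdK p q m : ℤ) * tT p q m := by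
  have h2 := Nat.div_add_mod (m * p) (q - p)
  have h3 := Nat.mod_lt (m * p) (show q - p > 0 by omega)
  have h4 : (gcdK p q m : ℤ) * tT p q m + ((m * p % (q - p) : ℕ) : ℤ) = (q : ℤ) - p := by
    have h1 := gcdK_mul_tT (p := p) (q := q) (m := m)
    have : gcdK p q m * tT p q m + m * p % (q - p) = q - p := by omega
    have h5 := congrArg (Nat.cast : ℕ → ℤ) this
    push_cast [Nat.cast_sub hpq.le] at h5 ⊢
    exact h5
  have h5 : (((q - p : ℕ) : ℤ)) * (alpha p q m : ℤ) + ((m * p % (q - p) : ℕ) : ℤ) = (m : ℤ) * p := by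
    exact_mod_cast h2
  rw [Nat.cast_sub hpq.le] at h5
  linarith

lemma gcdK_bB_cast {p q m : ℕ} (hpq : p < q) : (gcdK p q m : ℤ) * bB p q m = (q : ℤ) - p := by
  rw [← Nat.cast_mul, gcdK_mul_bB, Nat.cast_sub hpq.le]

lemma nN_eq {p q m : ℕ} (hpq : p < q) (c : List ℤ) (i : ℕ) :
    nN p q m c i = (gcdK p q m : ℤ) * hjR (bB p q m) (tT p q m) c i := by
  rw [hjR_eq, mul_sub, ← mul_assoc, ← mul_assoc, ← D_mul_alpha_succ hpq, gcdK_bB_cast hpq, nN, eE, lL]
  push_cast; ring

/-- The standing hypotheses. -/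
structure HJData (p q m : ℕ) (c : List ℤ) : Prop where
  hp : 0 < p
  hpq : p < q
  hcop : Nat.Coprime p q
  hm : 0 < m
  hnt : ¬ (q - p ∣ m)
  hc : IsHJDigits p q m c

namespace HJData

variable {p q m : ℕ} {c : List ℤ} (H : HJData p q m c)
include H

lemma gpos : (0 : ℤ) < gcdK p q m := by exact_mod_cast gcdK_pos H.hm

lemma spec : hjR (bB p q m) (tT p q m) c (c.length + 1) = 0 ∧
    hjR (bB p q m) (tT p q m) c c.length = 1 ∧
    (∀ i, i ≤ c.length → hjR (bB p q m) (tT p q m) c (i + 1) < hjR (bB p q m) (tT p q m) c i) := by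
  have ht : (0 : ℤ) < tT p q m := by exact_mod_cast tT_pos H.hpq
  have hb : (0 : ℤ) < bB p q m := by
    have := tT_lt_bB H.hpq H.hcop H.hm H.hnt
    omega
  obtain ⟨-, h0, h1, h2, h3⟩ := hjR_spec c (bB p q m) (tT p q m) H.hc.1 ht hb
    (by rw [H.hc.2]; push_cast; rfl)
  refine ⟨h0, ?_, h3⟩
  have h4 := h3 c.length le_rfl
  rw [h0] at h4
  exact Int.eq_one_of_dvd_one h4.le (dvd_one_of_dvd_bB_tT H.hpq H.hcop H.hm h1 h2)

lemma length_pos : 0 < c.length := by
  by_contra h
  have h1 := H.spec.2.1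
  have : c.length = 0 := by omega
  rw [this] at h1
  simp only [hjR] at h1
  have := tT_lt_bB H.hpq H.hcop H.hm H.hnt
  have := tT_pos (m := m) H.hpq
  omega

lemma R_le {i j : ℕ} (hij : i ≤ j) (hj : j ≤ c.length + 1) :
    hjR (bB p q m) (tT p q m) c j ≤ hjR (bB p q m) (tT p q m) c i := by
  induction hij with
  | refl => exact le_rfl
  | @step k hk ih =>
    exact (H.spec.2.2 k (by omega)).le.trans (ih (by omega))

lemma R_nonneg {i : ℕ} (hi : i ≤ c.length + 1) : 0 ≤ hjR (bB p q m) (tT p q m) c i := by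
  have := H.R_le hi le_rfl
  rwa [H.spec.1] at this

lemma R_pos {i : ℕ} (hi : i ≤ c.length) : 0 < hjR (bB p q m) (tT p q m) c i := by
  have := H.R_le hi (by omega)
  rw [H.spec.2.1] at this
  omega

lemma R_lt_b {i : ℕ} (hi1 : 1 ≤ i) (hi : i ≤ c.length + 1) :
    hjR (bB p q m) (tT p q m) c i < bB p q m := by
  have h := H.R_le hi1 hi
  have h0 := H.spec.2.2 0 (by omega)
  simp only [hjR] at h0 h ⊢
  exact lt_of_le_of_lt h h0

lemma digit {i : ℕ} (hi : i < c.length) : 2 ≤ c.getD i 0 := by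
  rw [List.getD_eq_getElem _ _ hi]; exact H.hc.1 _ (List.getElem_mem hi)

lemma P_mono {i : ℕ} (hi : i ≤ c.length) : 0 ≤ hjP c i ∧ hjP c i < hjP c (i + 1) := by
  induction i with
  | zero => simp [hjP]
  | succ i ih =>
    obtain ⟨h1, h2⟩ := ih (by omega)
    refine ⟨by omega, ?_⟩
    show _ < c.getD i 0 * hjP c (i + 1) - hjP c i
    have := H.digit (show i < c.length by omega)
    nlinarith

lemma Q_mono {i : ℕ} (hi : i ≤ c.length) : hjQ c i < hjQ c (i + 1) ∧ 0 ≤ hjQ c (i + 1) := by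
  induction i with
  | zero => simp [hjQ]
  | succ i ih =>
    obtain ⟨h1, h2⟩ := ih (by omega)
    have := H.digit (show i < c.length by omega)
    have : hjQ c (i + 1) < c.getD i 0 * hjQ c (i + 1) - hjQ c i := by nlinarith
    exact ⟨this, le_of_lt (lt_of_le_of_lt h2 this)⟩

omit H in
lemma det (c : List ℤ) : ∀ i, hjP c (i + 1) * hjQ c i - hjP c i * hjQ c (i + 1) = -1
  | 0 => by simp [hjP, hjQ]
  | i + 1 => by
    show (c.getD i 0 * hjP c (i + 1) - hjP c i) * hjQ c (i + 1) -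
      hjP c (i + 1) * (c.getD i 0 * hjQ c (i + 1) - hjQ c i) = -1
    linarith [det c i]

/-- For `0 < x < P_{i+1}` the residue of `t x` mod `b` is at least `R_i`. -/
lemma lower {i : ℕ} (hi : i + 1 ≤ c.length) {x : ℤ} (hx0 : 0 < x) (hx : x < hjP c (i + 1)) :
    hjR (bB p q m) (tT p q m) c i ≤ ((tT p q m : ℤ) * x) % (bB p q m : ℤ) := by
  set b : ℤ := (bB p q m : ℤ) with hb
  set t : ℤ := (tT p q m : ℤ) with ht
  have hR := H.spec.2.2 i (by omega)
  have hRp := H.R_pos hi
  have hP := H.P_mono (show i ≤ c.length by omega)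
  have hdet := det c i
  set y := t * x / b with hy
  set r := (t * x) % b with hr
  have hr0 : 0 ≤ r := Int.emod_nonneg _ (by
    have := H.R_lt_b (le_refl 1) (by omega); have := H.R_nonneg (show 1 ≤ c.length + 1 by omega); omega)
  have hrxy : r = t * x - b * y := by
    have := Int.emod_add_mul_ediv (t * x) b; rw [← hr, ← hy] at this; linarith
  set P' := hjP c i
  set P := hjP c (i + 1)
  set Q' := hjQ c i
  set Q := hjQ c (i + 1)
  set A : ℤ := x * Q - P * y with hA
  set B : ℤ := P' * y - x * Q' with hB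
  have ex : x = A * P' + B * P := by
    rw [hA, hB]; linear_combination (x : ℤ) * hdet
  have ey : y = A * Q' + B * Q := by
    rw [hA, hB]; linear_combination (y : ℤ) * hdet
  rw [hjR_eq] at hR hRp ⊢
  rw [hjR_eq] at hR
  change 0 < t * P - b * Q at hRp
  change t * P - b * Q < t * P' - b * Q' at hR
  have er : r = A * (t * P' - b * Q') + B * (t * P - b * Q) := by
    rw [hrxy, ex, ey]; ring
  show t * P' - b * Q' ≤ r
  rcases le_or_gt A 0 with hA0 | hA0
  · exfalso
    rcases le_or_gt B (-A) with hBA | hBA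
    · rcases eq_or_lt_of_le hA0 with h | h
      · rw [h] at ex hBA; nlinarith
      · nlinarith
    · nlinarith
  · rcases le_or_gt 0 B with hB0 | hB0
    · nlinarith
    · have : -B + 1 ≤ A := by
        by_contra h
        nlinarith
      nlinarith

lemma tP_emod {i : ℕ} (hi1 : 1 ≤ i) (hi : i ≤ c.length + 1) :
    ((tT p q m : ℤ) * hjP c i) % (bB p q m : ℤ) = hjR (bB p q m) (tT p q m) c i := by
  have h1 := H.R_nonneg hi
  have h2 := H.R_lt_b hi1 hi
  rw [← Int.emod_eq_of_lt h1 h2, hjR_eq, Int.sub_mul_emod_self_left]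

lemma upper {i : ℕ} (hi : i + 1 ≤ c.length) {x : ℤ} (hx0 : 0 < x) (hx : x < hjP c (i + 1)) :
    ((tT p q m : ℤ) * x) % (bB p q m : ℤ) ≤
      bB p q m + hjR (bB p q m) (tT p q m) c (i + 1) - hjR (bB p q m) (tT p q m) c i := by
  set b : ℤ := (bB p q m : ℤ) with hb
  set t : ℤ := (tT p q m : ℤ) with ht
  have h1 := H.lower hi hx0 hx
  have h2 := H.lower hi (show 0 < hjP c (i + 1) - x by omega) (by omega)
  have hR := H.spec.2.2 i (by omega)
  have hRp := H.R_pos hi
  have hbpos : 0 < b := lt_trans hRp (H.R_lt_b (by omega) (by omega))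
  have h3 : ((t * x) % b) < b := Int.emod_lt_of_pos _ hbpos
  have h4 : t * (hjP c (i + 1) - x) % b = b + hjR b t c (i + 1) - (t * x) % b := by
    have e1 := H.tP_emod (i := i + 1) (by omega) (by omega)
    rw [← hb, ← ht] at e1
    rw [mul_sub, Int.sub_emod, e1]
    rw [show hjR b t c (i + 1) - t * x % b = (b + hjR b t c (i + 1) - t * x % b) + b * (-1) by ring,
      Int.add_mul_emod_self_left]
    apply Int.emod_eq_of_lt
    · linarith
    · linarith
  rw [h4] at h2
  linarith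

lemma n_eq (i : ℕ) : nN p q m c i = (gcdK p q m : ℤ) * hjR (bB p q m) (tT p q m) c i := nN_eq H.hpq c i

lemma n_pos {i : ℕ} (hi : i ≤ c.length) : 0 < nN p q m c i := by
  rw [H.n_eq]; exact mul_pos H.gpos (H.R_pos hi)

lemma n_lt_D {i : ℕ} (hi1 : 1 ≤ i) (hi : i ≤ c.length + 1) : nN p q m c i < (q : ℤ) - p := by
  rw [H.n_eq, ← gcdK_bB_cast (m := m) H.hpq]; exact mul_lt_mul_of_pos_left (H.R_lt_b hi1 hi) H.gpos

lemma n_succ_lt {i : ℕ} (hi : i ≤ c.length) : nN p q m c (i + 1) < nN p q m c i := by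
  rw [H.n_eq, H.n_eq]; exact mul_lt_mul_of_pos_left (H.spec.2.2 i hi) H.gpos

/-- `(p m x + n_i) mod D = n_i + (p m x mod D)` for `0 < x < P_i`. -/
lemma mod_add {i : ℕ} (hi : i + 1 ≤ c.length) {x : ℤ} (hx0 : 0 < x) (hx : x < hjP c (i + 1)) :
    ((p : ℤ) * m * x + nN p q m c (i + 1)) % ((q : ℤ) - p) =
      nN p q m c (i + 1) + ((p : ℤ) * m * x) % ((q : ℤ) - p) := by
  have h1 := H.lower hi hx0 hx
  have hR := H.spec.2.2 i (by omega)
  have hRp := H.R_pos hi
  have hD : ((q : ℤ) - p) ≠ 0 := by have := H.hpq; omega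
  set b : ℤ := (bB p q m : ℤ) with hb
  set t : ℤ := (tT p q m : ℤ) with ht
  set g : ℤ := (gcdK p q m : ℤ) with hg
  have hgb : g * b = (q : ℤ) - p := gcdK_bB_cast H.hpq
  have hbpos : 0 < b := lt_trans hRp (H.R_lt_b (by omega) (by omega))
  set r := t * x % b
  have h3 : r < b := Int.emod_lt_of_pos _ hbpos
  have h5 : (p : ℤ) * m * x =
      g * (b - r) + ((q : ℤ) - p) * (((alpha p q m : ℤ) + 1) * x - t * x / b - 1) := by
    have e := D_mul_alpha_succ (m := m) H.hpq
    have e2 := Int.emod_add_mul_ediv (t * x) b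
    linear_combination (-x) * e + g * e2 + (-(t * x / b) - 1) * hgb
  have hg0 := H.gpos
  rw [← hg] at hg0
  have h6 : g * (b - r) % ((q : ℤ) - p) = g * (b - r) := by
    rw [← hgb]
    exact Int.emod_eq_of_lt (by nlinarith) (by nlinarith)
  rw [h5, Int.add_mul_emod_self_left, h6, add_right_comm, Int.add_mul_emod_self_left, H.n_eq,
    ← hg, ← hb, ← ht, Int.emod_eq_of_lt (by nlinarith) (by rw [← hgb]; nlinarith)]
  ring

lemma e_sub_l (i : ℕ) : eE p q m c i - lL p q m c i = (m : ℤ) * hjP c i := by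
  simp only [eE, lL]; push_cast; ring

omit H in
lemma n_def (i : ℕ) : nN p q m c i = -(p : ℤ) * eE p q m c i + (q : ℤ) * lL p q m c i := rfl

lemma l_mono {i : ℕ} (hi : i ≤ c.length) :
    1 ≤ lL p q m c i ∧ lL p q m c i ≤ lL p q m c (i + 1) := by
  induction i with
  | zero => simp [lL, hjP, hjQ]
  | succ i ih =>
    obtain ⟨h1, h2⟩ := ih (by omega)
    have h3 := H.digit (show i < c.length by omega)
    have h4 : lL p q m c (i + 1 + 1) = c.getD i 0 * lL p q m c (i + 1) - lL p q m c i := by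
      simp only [lL, hjP, hjQ]; ring
    refine ⟨by omega, ?_⟩
    rw [h4]
    nlinarith

lemma l_pos {i : ℕ} (hi : i ≤ c.length) : 1 ≤ lL p q m c i := (H.l_mono hi).1

lemma e_mono {i : ℕ} (hi : i ≤ c.length) : eE p q m c i < eE p q m c (i + 1) := by
  have h1 := H.l_mono hi
  have h2 := H.P_mono hi
  have h3 := H.e_sub_l i
  have h4 := H.e_sub_l (i + 1)
  have := H.hm
  nlinarith

lemma e_pos {i : ℕ} (hi : i ≤ c.length) : 1 ≤ eE p q m c i := by
  have h1 := H.l_pos hi
  have h2 := H.P_mono hi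
  have h3 := H.e_sub_l i
  nlinarith

end HJData

/-- The key step: a monomial of weight `n_i` with `d₀ < n_i` is divisible by `X₁^eᵢ X₂^lᵢ`. -/
lemma HJData.dominates {p q m : ℕ} {c : List ℤ} (H : HJData p q m c) {i : ℕ} (hi : i + 1 ≤ c.length)
    {d0 d1 d2 : ℤ} (h0 : 0 ≤ d0) (h1 : 0 ≤ d1) (h2 : 0 ≤ d2)
    (hw : d0 - p * d1 + q * d2 = nN p q m c (i + 1)) (hm' : (m : ℤ) ∣ d1 - d2)
    (hlt : d0 < nN p q m c (i + 1)) :
    eE p q m c (i + 1) ≤ d1 ∧ lL p q m c (i + 1) ≤ d2 := by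
  obtain ⟨x, hx⟩ := hm'
  set n := nN p q m c (i + 1) with hn
  have hnD : n < (q : ℤ) - p := H.n_lt_D (by omega) (by omega)
  have heq : d0 + ((q : ℤ) - p) * d2 = n + (p : ℤ) * m * x := by
    linear_combination hw + (p : ℤ) * hx
  have hmod : ((p : ℤ) * m * x + n) % ((q : ℤ) - p) = d0 := by
    rw [add_comm, ← heq, Int.add_mul_emod_self_left, Int.emod_eq_of_lt h0 (by omega)]
  have hpm : (0 : ℤ) < (p : ℤ) * m := by
    have := H.hp; have := H.hm; positivity
  have hDpos : (0 : ℤ) < (q : ℤ) - p := by have := H.hpq; omega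
  have hxP : hjP c (i + 1) ≤ x := by
    by_contra hxP
    rcases lt_trichotomy x 0 with hx0 | rfl | hx0
    · have hm0 : (0 : ℤ) < m := by exact_mod_cast H.hm
      have hd2 : 1 ≤ d2 := by nlinarith
      nlinarith
    · rw [mul_zero, zero_add, Int.emod_eq_of_lt (H.n_pos hi).le hnD] at hmod
      omega
    · rw [H.mod_add hi hx0 (not_le.1 hxP)] at hmod
      have := Int.emod_nonneg ((p : ℤ) * m * x) hDpos.ne'
      omega
  have hne : n = ((q : ℤ) - p) * lL p q m c (i + 1) - (p : ℤ) * m * hjP c (i + 1) := by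
    rw [hn, HJData.n_def]
    linear_combination (-(p : ℤ)) * H.e_sub_l (i + 1)
  have hl : lL p q m c (i + 1) ≤ d2 := by
    by_contra h
    nlinarith
  refine ⟨?_, hl⟩
  have := H.e_sub_l (i + 1)
  have hm0 : (0 : ℤ) < m := by exact_mod_cast H.hm
  nlinarith

end Groth.Misc10
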