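import Mathlib

/-! The degree of the Frobenius of a finitely generated field extension of a perfect field. -/

set_option autoImplicit false

universe u v w

namespace Groth.Misc10.FrobDeg

/-- The degree of a ring homomorphism: the finrank of the target over the source. -/
noncomputable def hdeg {A : Type u} {B : Type v} [CommRing A] [CommRing B] (φ : A →+* B) : ℕ :=
  @Module.finrank A B _ _ φ.toAlgebra.toModule

lemma hdeg_comp {A : Type u} {B : Type v} {C : Type w} [Field A] [Field B] [Field C]
    (f : A →+* B) (g : B →+* C) : hdeg (g.comp f) = hdeg f * hdeg g := by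
  letI := f.toAlgebra; letI := g.toAlgebra; letI := (g.comp f).toAlgebra
  haveI : IsScalarTower A B C := IsScalarTower.of_algebraMap_eq fun _ => rfl
  exact (Module.finrank_mul_finrank A B C).symm

/-- Frobenius degree is invariant in finite extensions. -/
lemma hdeg_iterateFrobenius_eq {F : Type u} {K : Type v} [Field F] [Field K] (p r : ℕ)
    [ExpChar F p] [ExpChar K p] (ι : F →+* K) (h : hdeg ι ≠ 0) :
    hdeg (iterateFrobenius K p r) = hdeg (iterateFrobenius F p r) := by
  have hcomm : (iterateFrobenius K p r).comp ι = ι.comp (iterateFrobenius F p r) :=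
    RingHom.ext fun x => by simp [iterateFrobenius_def]
  have h1 := congrArg hdeg hcomm
  rw [hdeg_comp, hdeg_comp, mul_comm (hdeg (iterateFrobenius F p r))] at h1
  exact Nat.eq_of_mul_eq_mul_left (Nat.pos_of_ne_zero h) h1

lemma hdeg_of_bijective {A : Type u} {B : Type v} [CommRing A] [Nontrivial A] [CommRing B] (φ : A →+* B)
    {ι : Type w} [Fintype ι] (b : ι → B) (h : Function.Bijective fun a : ι → A => ∑ i, φ (a i) * b i) :
    hdeg φ = Fintype.card ι := by
  letI := φ.toAlgebra
  have h' : Function.Bijective (Fintype.linearCombination A b) := by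
    convert h using 1
    funext a
    simp [Fintype.linearCombination_apply, Algebra.smul_def, RingHom.algebraMap_toAlgebra]
  have := (LinearEquiv.ofBijective _ h').finrank_eq
  rw [Module.finrank_pi] at this
  exact this.symm

lemma hdeg_fractionRing {A : Type u} {F : Type u} {B : Type v} {L : Type v} [CommRing A] [Field F]
    [CommRing B] [Field L] [Algebra A F] [IsFractionRing A F] [Algebra B L] [IsFractionRing B L]
    (φ : A →+* B) (ψ : F →+* L) (h : ψ.comp (algebraMap A F) = (algebraMap B L).comp φ) :
    hdeg ψ = hdeg φ := by
  letI := φ.toAlgebra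
  letI := ψ.toAlgebra
  letI := ((algebraMap B L).comp φ).toAlgebra
  haveI : IsScalarTower A B L := IsScalarTower.of_algebraMap_eq fun _ => rfl
  haveI : IsScalarTower A F L := IsScalarTower.of_algebraMap_eq fun a => (RingHom.congr_fun h a).symm
  exact IsFractionRing.finrank_eq A F B L

section Poly

variable {k : Type u} [Field k] (p r n : ℕ) [ExpChar k p] [PerfectRing k p]

open MvPolynomial

local notation "q" => p ^ r

lemma q_pos (k : Type u) [Field k] (p r : ℕ) [ExpChar k p] : 0 < p ^ r := pow_pos (expChar_pos k p) r

/-- the exponent vector with entries in `Fin q` -/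
noncomputable def expVec (e : Fin n → Fin q) : Fin n →₀ ℕ := Finsupp.equivFunOnFinite.symm fun i => (e i : ℕ)

omit [PerfectRing k p] in
lemma coeff_pow_mul_monomial (a : MvPolynomial (Fin n) k) (e e' : Fin n → Fin q) (d : Fin n →₀ ℕ) :
    (a ^ q * monomial (expVec p r n e) 1).coeff (q • d + expVec p r n e') =
      if e = e' then a.coeff d ^ q else 0 := by
  rw [← map_iterateFrobenius_expand p, coeff_mul_monomial']
  split_ifs with h1 h2 h2
  · subst h2
    rw [add_tsub_cancel_right, mul_one, coeff_map, coeff_expand_smul _ (q_pos k p r).ne', iterateFrobenius_def]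
  · obtain ⟨i, hi⟩ := Function.ne_iff.1 h2
    rw [mul_one, coeff_map, coeff_expand_of_not_dvd (i := i), map_zero]
    intro hdvd
    apply hi
    have hle : (e i : ℕ) ≤ q * d i + e' i := by simpa [expVec] using h1 i
    have hd : q ∣ q * d i + e' i - e i := by simpa [expVec] using hdvd
    apply Fin.ext
    obtain ⟨c, hc⟩ := hd
    have h3 := (e i).isLt
    have h4 := (e' i).isLt
    have h5 : q * c + e i = q * d i + e' i := by omega
    have := congrArg (· % q) h5
    simpa [Nat.add_mod, Nat.mod_eq_of_lt h3, Nat.mod_eq_of_lt h4] using this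
  · exfalso
    exact h1 (by subst h2; exact le_add_self)
  · rfl

lemma hdeg_iterateFrobenius_mvPolynomial [ExpChar (MvPolynomial (Fin n) k) p] :
    hdeg (iterateFrobenius (MvPolynomial (Fin n) k) p r) = q ^ n := by
  classical
  let Φ : ((Fin n → Fin q) → MvPolynomial (Fin n) k) → MvPolynomial (Fin n) k :=
    fun a => ∑ e, a e ^ q * monomial (expVec p r n e) 1
  have hcoeff : ∀ a e' d, (Φ a).coeff (q • d + expVec p r n e') = (a e').coeff d ^ q := by
    intro a e' d
    simp only [Φ, coeff_sum, coeff_pow_mul_monomial]
    simp
  have hadd : ∀ a b, Φ (a + b) = Φ a + Φ b := fun a b => by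
    simp [Φ, add_pow_expChar_pow, add_mul, Finset.sum_add_distrib]
  have hinj : Function.Injective Φ := fun a b hab => funext fun e => MvPolynomial.ext _ _ fun d => by
    have := congrArg (fun x => x.coeff (q • d + expVec p r n e)) hab
    simp only [hcoeff] at this
    exact iterateFrobenius_inj k p r (by simpa [iterateFrobenius_def] using this)
  have hsurj : Function.Surjective Φ := by
    intro x
    induction x using MvPolynomial.induction_on' with
    | add a b ha hb =>
      obtain ⟨a, rfl⟩ := ha
      obtain ⟨b, rfl⟩ := hb
      exact ⟨a + b, hadd a b⟩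
    | monomial m c =>
      obtain ⟨c, rfl⟩ := (bijective_iterateFrobenius k p (n := r)).2 c
      let e : Fin n → Fin q := fun i => ⟨m i % q, Nat.mod_lt _ (q_pos k p r)⟩
      let d : Fin n →₀ ℕ := Finsupp.equivFunOnFinite.symm fun i => m i / q
      have hm : q • d + expVec p r n e = m := by
        ext i; simp [d, expVec, e, Nat.div_add_mod]
      refine ⟨Pi.single e (monomial d c), ?_⟩
      have hq := q_pos k p r
      rw [show Φ (Pi.single e (monomial d c)) = monomial d c ^ q * monomial (expVec p r n e) 1 from
        Finset.sum_eq_single e (fun e' _ h => by rw [Pi.single_eq_of_ne h, zero_pow hq.ne', zero_mul]) (by simp) |>.trans (by simp),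
        monomial_pow, monomial_mul, mul_one, hm, iterateFrobenius_def]
  have := hdeg_of_bijective (iterateFrobenius (MvPolynomial (Fin n) k) p r)
    (fun e : Fin n → Fin q => monomial (expVec p r n e) (1 : k)) (by
      have he : (fun a : (Fin n → Fin q) → MvPolynomial (Fin n) k => ∑ e, (iterateFrobenius (MvPolynomial (Fin n) k) p r) (a e) *
          monomial (expVec p r n e) (1 : k)) = Φ := by
        funext a
        simp [Φ, iterateFrobenius_def]
      rw [he]; exact ⟨hinj, hsurj⟩)
  simpa [Fintype.card_fun, Fintype.card_fin] using this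

end Poly

variable (k : Type u) [Field k] (K : Type v) [Field K] [Algebra k K]

/-- `[K : K^q] = q^n` for `K` finitely generated of transcendence degree `n` over a perfect `k`. -/
theorem hdeg_iterateFrobenius (p r : ℕ) [ExpChar k p] [PerfectRing k p] [ExpChar K p]
    [Algebra.EssFiniteType k K] (n : ℕ) (hn : Algebra.trdeg k K = n) :
    hdeg (iterateFrobenius K p r) = (p ^ r) ^ n := by
  classical
  obtain ⟨s, hs⟩ := exists_finset_isTranscendenceBasis k K
  have hcard : Fintype.card s = n := by
    have h := hs.lift_cardinalMk_eq_trdeg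
    rw [hn] at h
    simpa using h
  let e : Fin n ≃ s := (Fintype.equivFinOfCardEq hcard).symm
  let x : Fin n → K := fun i => (e i : K)
  have hx : IsTranscendenceBasis k x := hs.comp_equiv e
  haveI : ExpChar (MvPolynomial (Fin n) k) p := expChar_of_injective_algebraMap (algebraMap k _).injective p
  let S := MvPolynomial (Fin n) k
  let F := FractionRing S
  haveI : ExpChar F p := expChar_of_injective_algebraMap (IsFractionRing.injective S F) p
  have hinj : Function.Injective (MvPolynomial.aeval (R := k) x).toRingHom := hx.1
  let ι : F →+* K := IsFractionRing.lift (g := (MvPolynomial.aeval (R := k) x).toRingHom) hinj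
  letI := ι.toAlgebra
  haveI : IsScalarTower k F K := IsScalarTower.of_algebraMap_eq fun a => by
    show algebraMap k K a = ι (algebraMap k F a)
    rw [IsScalarTower.algebraMap_apply k S F, IsFractionRing.lift_algebraMap]
    exact ((MvPolynomial.aeval (R := k) x).commutes a).symm
  haveI : Algebra.EssFiniteType F K := Algebra.EssFiniteType.of_comp k F K
  haveI : Algebra.IsAlgebraic F K := by
    have hrange : Set.range x ⊆ Set.range (algebraMap F K) := by
      rintro _ ⟨i, rfl⟩
      refine ⟨algebraMap S F (MvPolynomial.X i), ?_⟩
      show ι _ = _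
      rw [IsFractionRing.lift_algebraMap]
      simp
    let M := IntermediateField.adjoin k (Set.range x)
    have hle : M ≤ (IsScalarTower.toAlgHom k F K).fieldRange :=
      IntermediateField.adjoin_le_iff.2 hrange
    haveI : Algebra.IsAlgebraic M K := hx.isAlgebraic_field
    refine ⟨fun z => ?_⟩
    have hz : IsAlgebraic M z := Algebra.IsAlgebraic.isAlgebraic z
    obtain ⟨P, hP0, hP⟩ := hz
    have hlift : ∀ m : M, ∃ a : F, algebraMap F K a = (m : K) := fun m => hle m.2
    have hmem : P.map (algebraMap M K) ∈ Polynomial.lifts (algebraMap F K) :=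
      (Polynomial.lifts_iff_coeff_lifts _).2 fun i => by
        rw [Polynomial.coeff_map]; exact hlift _
    obtain ⟨Q, hQ⟩ := hmem
    refine ⟨Q, fun h => hP0 ?_, ?_⟩
    · have := hQ
      rw [h, Polynomial.coe_mapRingHom, Polynomial.map_zero, eq_comm,
        Polynomial.map_eq_zero_iff (algebraMap M K).injective] at this
      exact this
    · rw [Polynomial.aeval_def, Polynomial.eval₂_eq_eval_map]
      rw [Polynomial.coe_mapRingHom] at hQ
      rw [hQ, Polynomial.eval_map, ← Polynomial.aeval_def, hP]
  haveI : Module.Finite F K := Algebra.finite_of_essFiniteType_of_isAlgebraic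
  have hι : hdeg ι ≠ 0 := (Module.finrank_pos (R := F) (M := K)).ne'
  rw [hdeg_iterateFrobenius_eq p r ι hι, ← hdeg_iterateFrobenius_mvPolynomial (k := k) p r n]
  exact hdeg_fractionRing _ _ (RingHom.ext fun a => by simp [iterateFrobenius_def])

end Groth.Misc10.FrobDeg
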