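import Groth.Agent.Misc10.Mon

/-! Generators of weight pieces and the ideals `idealL`. -/

set_option autoImplicit false

namespace Groth.Misc10

open W4c2invhilbsl2 MvPolynomial

universe u

variable {k : Type u} [Field k]

lemma monomial_mem_map_mulRight {σ M : Type*} [AddCommGroup M] {w : σ → M} {d e : σ →₀ ℕ}
    {g : MvPolynomial σ k} (hg : g = monomial e 1) (hle : e ≤ d)
    (hw : Finsupp.weight w d = Finsupp.weight w e) :
    monomial d (1 : k) ∈ (weightedHomogeneousSubmodule k w 0).map (LinearMap.mulRight k g) := by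
  obtain ⟨f, rfl⟩ := exists_add_of_le hle
  refine ⟨monomial f 1, monomial_mem_piece ?_, ?_⟩
  · rw [map_add] at hw; simpa using hw
  · rw [LinearMap.mulRight_apply, hg, monomial_mul, add_comm f, one_mul]

/-- the equation of the hypersurface -/
noncomputable def hyp (k : Type u) [CommRing k] (p q : ℕ) : MvPolynomial (Fin 5) k :=
  X (0 : Fin 5) ^ (q - p) - X 1 * X 4 + X 2 * X 3

lemma monomial_mul_X {σ : Type*} [DecidableEq σ] (d : σ →₀ ℕ) (i : σ) :
    (monomial d (1 : k)) * X i = monomial (d + Finsupp.single i 1) 1 := by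
  rw [X, monomial_mul, one_mul]

lemma monomial_sub_mem_hyp {p q : ℕ} (d' : Fin 5 →₀ ℕ) :
    monomial (d' + Finsupp.single 0 (q - p)) (1 : k) -
        (monomial (d' + Finsupp.single 1 1 + Finsupp.single 4 1) 1 -
          monomial (d' + Finsupp.single 2 1 + Finsupp.single 3 1) 1) ∈ Ideal.span {hyp k p q} := by
  rw [Ideal.mem_span_singleton]
  refine ⟨monomial d' 1, ?_⟩
  rw [← monomial_mul_X, ← monomial_mul_X, ← monomial_mul_X (k := k) (d' + Finsupp.single 2 1) 3,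
    ← monomial_mul_X, hyp, X_pow_eq_monomial, sub_eq_add_neg (monomial _ (1:k))]
  have : monomial (d' + Finsupp.single 0 (q - p)) (1 : k) =
      monomial d' 1 * monomial (Finsupp.single (0 : Fin 5) (q - p)) 1 := by rw [monomial_mul, one_mul]
  rw [this]; ring

/-! ### the ideals `idealL` -/

section L

variable {p q m : ℕ} {c : List ℤ}

lemma mem_idealL_left (i : ℕ) (s : k) {f : MvPolynomial (Fin 3) k}
    (h : f ∈ ({X 0 ^ (nN p q m c (i - 1)).toNat,
      C s * X 0 ^ (nN p q m c i).toNat - X 1 ^ (eE p q m c i).toNat * X 2 ^ (lL p q m c i).toNat} :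
        Set (MvPolynomial (Fin 3) k))) : f ∈ idealL k p q m c i s :=
  Ideal.mem_sup_left (Ideal.subset_span h)

lemma basis_key {n n' e e' l l' A B u0 u1 u2 v0 v1 v2 : ℤ} (hn : n < n') (hnpos : 0 < n)
    (hee : e' < e) (he'pos : 1 ≤ e') (hll : l' ≤ l) (hl'pos : 1 ≤ l') (hu0 : u0 < n') (hv0 : 0 ≤ v0)
    (hu1 : 0 ≤ u1) (hu2 : 0 ≤ u2) (hv1 : 0 ≤ v1) (hv2 : 0 ≤ v2)
    (s0 : u0 - v0 = A * n' + B * n) (s1 : u1 - v1 = -(A * e' + B * e)) (s2 : u2 - v2 = -(A * l' + B * l))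
    (hAB : 0 < A ∨ A = 0 ∧ 0 < B) :
    (v0 ≤ u0 ∧ v1 < u1 ∧ v2 ≤ u2) ∨ (e ≤ v1 ∧ l ≤ v2) ∨ (e ≤ u1 ∧ l ≤ u2) := by
  rcases hAB with hA0 | ⟨rfl, hB0⟩
  · rcases le_or_gt 0 B with hB0 | hB0
    · exfalso
      have a1 : n' * 1 ≤ n' * A := mul_le_mul_of_nonneg_left (by omega) (by omega)
      have a2 : 0 ≤ B * n := mul_nonneg hB0 hnpos.le
      linarith
    rcases lt_or_ge (-B) A with hBA | hBA
    · exfalso
      have a1 : 0 ≤ (A + B - 1) * n' := mul_nonneg (by omega) (by omega)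
      have a2 : B * n' ≤ B * n := mul_le_mul_of_nonpos_left hn.le hB0.le
      linarith
    have a3 : A * (e' - e) ≤ 1 * (e' - e) := mul_le_mul_of_nonpos_right hA0 (by omega)
    have a4 : 0 ≤ (-B - A) * e := mul_nonneg (by omega) (by omega)
    have a5 : 0 ≤ A * (l - l') := mul_nonneg hA0.le (by omega)
    have a6 : 0 ≤ (-B - A) * l := mul_nonneg (by omega) (by omega)
    rcases le_or_gt 0 (A * n' + B * n) with h00 | h00
    · exact Or.inl ⟨by linarith, by linarith, by linarith⟩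
    · have hlt : A < -B := by
        rcases lt_or_eq_of_le hBA with h | h
        · exact h
        · exfalso
          have a7 : 0 ≤ A * (n' - n) := mul_nonneg hA0.le (by omega)
          have a8 : B * n = -A * n := by rw [h]; ring
          linarith
      have a7 : 1 * e ≤ (-B - A) * e := mul_le_mul_of_nonneg_right (by omega) (by omega)
      have a8 : 1 * l ≤ (-B - A) * l := mul_le_mul_of_nonneg_right (by omega) (by omega)
      exact Or.inr (Or.inr ⟨by linarith, by linarith⟩)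
  · have a1 : 1 * e ≤ B * e := mul_le_mul_of_nonneg_right hB0 (by omega)
    have a2 : 1 * l ≤ B * l := mul_le_mul_of_nonneg_right hB0 (by omega)
    exact Or.inr (Or.inl ⟨by linarith, by linarith⟩)

set_option maxHeartbeats 1600000 in
lemma idealL_rank (H : HJData p q m c) {i : ℕ} (hi : i + 1 ≤ c.length) (s : k) (ν : ℤ × ZMod m) :
    Module.rank k (piece k (wt3 p q m) (idealL k p q m c (i + 1) s) ν) ≤ 1 := by
  classical
  set n' := nN p q m c i with hn'
  set n := nN p q m c (i + 1) with hn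
  set e' := eE p q m c i with he'
  set e := eE p q m c (i + 1) with he
  set l' := lL p q m c i with hl'
  set l := lL p q m c (i + 1) with hl
  have hnn : n < n' := H.n_succ_lt (by omega)
  have hnpos : 0 < n := H.n_pos hi
  have hepos : 1 ≤ e := H.e_pos hi
  have hlpos : 1 ≤ l := H.l_pos hi
  have hee : e' < e := H.e_mono (by omega)
  have hll : l' ≤ l := (H.l_mono (by omega)).2
  have hl'pos : 1 ≤ l' := H.l_pos (by omega)
  have he'pos : 1 ≤ e' := H.e_pos (by omega)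
  set mk := Ideal.Quotient.mk (idealL k p q m c (i + 1) s) with hmk
  let Red : (Fin 3 →₀ ℕ) → Prop := fun d =>
    ((d 0 : ℕ) : ℤ) < n' ∧ ¬ (e ≤ ((d 1 : ℕ) : ℤ) ∧ l ≤ ((d 2 : ℕ) : ℤ)) ∧
    ¬ ∃ δ : Fin 3 →₀ ℕ, δ ≠ 0 ∧ δ ≤ d ∧ Finsupp.weight (wt3 p q m) δ = 0
  -- vanishing
  have hx0 : ∀ d : Fin 3 →₀ ℕ, n' ≤ ((d 0 : ℕ) : ℤ) → mk (monomial d 1) = 0 := by
    intro d hd
    rw [Ideal.Quotient.eq_zero_iff_mem]
    refine Ideal.mem_of_dvd _ ?_ (mem_idealL_left (i + 1) s (Set.mem_insert _ _))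
    rw [monomial_three, Nat.add_sub_cancel]
    exact Dvd.dvd.mul_right (Dvd.dvd.mul_right (pow_dvd_pow _ (by omega)) _) _
  have hK : ∀ d δ : Fin 3 →₀ ℕ, δ ≠ 0 → δ ≤ d → Finsupp.weight (wt3 p q m) δ = 0 →
      mk (monomial d 1) = 0 := by
    intro d δ hδ hle hw
    rw [Ideal.Quotient.eq_zero_iff_mem]
    obtain ⟨f, rfl⟩ := exists_add_of_le hle
    rw [show monomial (δ + f) (1 : k) = monomial δ 1 * monomial f 1 by rw [monomial_mul, one_mul]]
    exact Ideal.mul_mem_right _ _ (Ideal.mem_sup_right (Ideal.subset_span ⟨δ, hδ, hw, rfl⟩))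
  -- rewriting `X₁^e X₂^l ↦ s X₀^n`
  have hstep : ∀ d : Fin 3 →₀ ℕ, e ≤ ((d 1 : ℕ) : ℤ) → l ≤ ((d 2 : ℕ) : ℤ) →
      ∃ d' : Fin 3 →₀ ℕ, Finsupp.weight (wt3 p q m) d' = Finsupp.weight (wt3 p q m) d ∧ d' 1 < d 1 ∧
        mk (monomial d 1) = s • mk (monomial d' 1) := by
    intro d hd1 hd2
    refine ⟨tri (d 0 + n.toNat) (d 1 - e.toNat) (d 2 - l.toNat), ?_, by simp; omega, ?_⟩
    · rw [weight_wt3, weight_wt3, W3_eq_iff]
      simp only [tri_zero, tri_one, tri_two]
      push_cast [Nat.cast_sub (show e.toNat ≤ d 1 by omega), Nat.cast_sub (show l.toNat ≤ d 2 by omega),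
        Int.toNat_of_nonneg hnpos.le, Int.toNat_of_nonneg (show 0 ≤ e by omega),
        Int.toNat_of_nonneg (show 0 ≤ l by omega)]
      refine ⟨?_, -(hjP c (i + 1)), ?_⟩
      · rw [hn, he, hl, HJData.n_def]; ring
      · rw [mul_neg, ← H.e_sub_l]; ring
    · rw [← Ideal.Quotient.mkₐ_eq_mk k, ← map_smul, Ideal.Quotient.mkₐ_eq_mk, Ideal.Quotient.eq]
      have hg : C s * X 0 ^ n.toNat - X 1 ^ e.toNat * X 2 ^ l.toNat ∈ idealL k p q m c (i + 1) s :=
        mem_idealL_left (i + 1) s (Set.mem_insert_of_mem _ rfl)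
      refine Ideal.mem_of_dvd _ ?_ hg
      refine ⟨-(X 0 ^ d 0 * X 1 ^ (d 1 - e.toNat) * X 2 ^ (d 2 - l.toNat)), ?_⟩
      rw [monomial_three, monomial_three, smul_eq_C_mul]
      simp only [tri_zero, tri_one, tri_two]
      obtain ⟨a, ha⟩ := Nat.exists_eq_add_of_le (show e.toNat ≤ d 1 by omega)
      obtain ⟨b, hb⟩ := Nat.exists_eq_add_of_le (show l.toNat ≤ d 2 by omega)
      rw [ha, hb, Nat.add_sub_cancel_left, Nat.add_sub_cancel_left, pow_add, pow_add, pow_add]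
      ring
  -- normal form
  have hnf : ∀ N, ∀ d : Fin 3 →₀ ℕ, d 1 = N → ∃ (d' : Fin 3 →₀ ℕ) (a : k),
      Finsupp.weight (wt3 p q m) d' = Finsupp.weight (wt3 p q m) d ∧
      mk (monomial d 1) = a • mk (monomial d' 1) ∧ (a = 0 ∨ Red d') := by
    intro N
    induction N using Nat.strong_induction_on with
    | _ N ih =>
      intro d hd
      by_cases hel : e ≤ ((d 1 : ℕ) : ℤ) ∧ l ≤ ((d 2 : ℕ) : ℤ)
      · obtain ⟨d', hw, hlt, heq⟩ := hstep d hel.1 hel.2
        obtain ⟨d'', a, hw', heq', ha⟩ := ih (d' 1) (hd ▸ hlt) d' rfl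
        refine ⟨d'', s * a, hw'.trans hw, by rw [heq, heq', mul_smul], ?_⟩
        exact ha.imp (fun h => by simp [h]) id
      · by_cases hR : Red d
        · exact ⟨d, 1, rfl, by rw [one_smul], Or.inr hR⟩
        · refine ⟨d, 0, rfl, ?_, Or.inl rfl⟩
          rw [zero_smul]
          by_contra hne
          refine hR ⟨lt_of_not_ge fun h => hne (hx0 d h), hel, ?_⟩
          rintro ⟨δ, h1, h2, h3⟩
          exact hne (hK d δ h1 h2 h3)
  -- uniqueness of reduced monomials of a given weight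
  have huniq : ∀ d d' : Fin 3 →₀ ℕ, Finsupp.weight (wt3 p q m) d = Finsupp.weight (wt3 p q m) d' →
      Red d → Red d' → d = d' := by
    intro d d' hw hd hd'
    obtain ⟨h0, h12, hdK⟩ := hd
    obtain ⟨h0', h12', hdK'⟩ := hd'
    rw [weight_wt3, weight_wt3, W3_eq_iff] at hw
    obtain ⟨hwn, x, hx⟩ := hw
    set y : ℤ := ((d 2 : ℕ) : ℤ) - (d' 2 : ℕ) with hy
    -- coordinates in the basis `(n', -e', -l')`, `(n, -e, -l)`
    have hdet : hjP c i * l - hjP c (i + 1) * l' = hjP c (i + 1) * hjQ c i - hjP c i * hjQ c (i + 1) := by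
      rw [hl, hl']; simp only [lL]; ring
    rw [HJData.det] at hdet
    set A : ℤ := l * x - hjP c (i + 1) * y with hA
    set B : ℤ := hjP c i * y - l' * x with hB
    have eN : n = ((q : ℤ) - p) * l - (p : ℤ) * m * hjP c (i + 1) := by
      rw [hn, HJData.n_def, ← he, ← hl]; linear_combination (-(p : ℤ)) * H.e_sub_l (i + 1)
    have eN' : n' = ((q : ℤ) - p) * l' - (p : ℤ) * m * hjP c i := by
      rw [hn', HJData.n_def, ← he', ← hl']; linear_combination (-(p : ℤ)) * H.e_sub_l i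
    have eE' : e = l + (m : ℤ) * hjP c (i + 1) := by rw [← H.e_sub_l]; ring
    have eE'' : e' = l' + (m : ℤ) * hjP c i := by rw [← H.e_sub_l]; ring
    have r2 : ((d 2 : ℕ) : ℤ) - (d' 2 : ℕ) = -(A * l' + B * l) := by
      rw [← hy, hA, hB]; linear_combination y * hdet
    have r1 : ((d 1 : ℕ) : ℤ) - (d' 1 : ℕ) = -(A * e' + B * e) := by
      rw [eE', eE'', hA, hB]; linear_combination hx - hy + (y + (m : ℤ) * x) * hdet
    have r0 : ((d 0 : ℕ) : ℤ) - (d' 0 : ℕ) = A * n' + B * n := by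
      rw [eN, eN', hA, hB]
      linear_combination hwn + (p : ℤ) * hx + ((q : ℤ) - p) * hy +
        (-((q : ℤ) - p) * y + (p : ℤ) * m * x) * hdet
    clear_value A B
    -- a positive coordinate vector is impossible
    have key : ∀ (u v : Fin 3 →₀ ℕ) (A B : ℤ), ((u 0 : ℕ) : ℤ) < n' → ((v 0 : ℕ) : ℤ) < n' →
        ¬ (e ≤ ((v 1 : ℕ) : ℤ) ∧ l ≤ ((v 2 : ℕ) : ℤ)) → ¬ (e ≤ ((u 1 : ℕ) : ℤ) ∧ l ≤ ((u 2 : ℕ) : ℤ)) →
        (¬ ∃ δ : Fin 3 →₀ ℕ, δ ≠ 0 ∧ δ ≤ u ∧ Finsupp.weight (wt3 p q m) δ = 0) →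
        ((u 0 : ℕ) : ℤ) - (v 0 : ℕ) = A * n' + B * n →
        ((u 1 : ℕ) : ℤ) - (v 1 : ℕ) = -(A * e' + B * e) →
        ((u 2 : ℕ) : ℤ) - (v 2 : ℕ) = -(A * l' + B * l) →
        Finsupp.weight (wt3 p q m) u = Finsupp.weight (wt3 p q m) v →
        ¬ (0 < A ∨ A = 0 ∧ 0 < B) := by
      intro u v A B hu0 hv0 hv12 hu12 huK s0 s1 s2 huv hAB
      rcases basis_key hnn hnpos hee he'pos hll hl'pos hu0 (by omega) (by omega) (by omega) (by omega)
        (by omega) s0 s1 s2 hAB with ⟨g0, g1, g2⟩ | h | h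
      · refine huK ⟨tri (u 0 - v 0) (u 1 - v 1) (u 2 - v 2), ?_, ?_, ?_⟩
        · intro h
          have := congrArg (fun f => f 1) h
          simp at this
          omega
        · intro j; fin_cases j <;> simp
        · rw [weight_wt3, W3_eq_zero]
          rw [weight_wt3, weight_wt3, W3_eq_iff] at huv
          simp only [tri_zero, tri_one, tri_two]
          push_cast [Nat.cast_sub (show v 0 ≤ u 0 by omega), Nat.cast_sub (show v 1 ≤ u 1 by omega),
            Nat.cast_sub (show v 2 ≤ u 2 by omega)]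
          refine ⟨by linarith [huv.1], ?_⟩
          convert huv.2 using 1
          ring
      · exact hv12 h
      · exact hu12 h
    have hw' : Finsupp.weight (wt3 p q m) d = Finsupp.weight (wt3 p q m) d' := by
      rw [weight_wt3, weight_wt3, W3_eq_iff]; exact ⟨hwn, x, hx⟩
    have k1 := key d d' A B h0 h0' h12' h12 hdK r0 r1 r2 hw'
    have k2 := key d' d (-A) (-B) h0' h0 h12 h12' hdK' (by linarith) (by linarith) (by linarith) hw'.symm
    obtain ⟨rfl, rfl⟩ : A = 0 ∧ B = 0 := by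
      rcases lt_trichotomy A 0 with h | h | h
      · exact absurd (Or.inl (by omega)) k2
      · rcases lt_trichotomy B 0 with h' | h' | h'
        · exact absurd (Or.inr ⟨by omega, by omega⟩) k2
        · exact ⟨h, h'⟩
        · exact absurd (Or.inr ⟨h, h'⟩) k1
      · exact absurd (Or.inl h) k1
    ext j
    fin_cases j <;> simp at * <;> omega
  by_cases hex : ∃ d, Finsupp.weight (wt3 p q m) d = ν ∧ Red d
  · obtain ⟨d₀, hd₀, hR₀⟩ := hex
    refine rank_piece_le_one k (mk (monomial d₀ 1)) fun d hd => ?_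
    obtain ⟨d', a, hw, heq, ha⟩ := hnf (d 1) d rfl
    rcases ha with rfl | hR
    · exact ⟨0, by rw [← hmk, heq, zero_smul, zero_smul]⟩
    · rw [huniq d' d₀ (by rw [hw, hd, hd₀]) hR hR₀] at heq
      exact ⟨a, heq⟩
  · refine rank_piece_le_one k 0 fun d hd => ⟨0, ?_⟩
    obtain ⟨d', a, hw, heq, ha⟩ := hnf (d 1) d rfl
    rcases ha with rfl | hR
    · rw [← hmk, heq, zero_smul, zero_smul]
    · exact absurd ⟨d', hw.trans hd, hR⟩ hex

end L

end Groth.Misc10
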