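import Groth.Prelude.Def_W4c2quivmodsheafKron
import Mathlib.LinearAlgebra.Dual.Lemmas
import Mathlib.LinearAlgebra.Dimension.Constructions
import Mathlib.LinearAlgebra.Matrix.ToLinearEquiv
import Mathlib.LinearAlgebra.Matrix.Charpoly.Coeff
import Mathlib.RingTheory.MatrixPolynomialAlgebra
import Mathlib.LinearAlgebra.Eigenspace.Triangularizable
import Mathlib.FieldTheory.IsAlgClosed.Basic
import Mathlib.Tactic

/-! Kronecker modules. -/

set_option autoImplicit false

namespace Groth.Misc10.Kron

open KronMod Module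

universe u v w

variable {K : Type u} [Field K] {V : Type v} {W : Type w}
  [AddCommGroup V] [Module K V] [FiniteDimensional K V]
  [AddCommGroup W] [Module K W] [FiniteDimensional K W] {n : ℕ}

/-- `(v_j) ↦ ∑ f_j v_j` -/
noncomputable def sumMap (f : Fin n → (V →ₗ[K] W)) : (Fin n → V) →ₗ[K] W :=
  ∑ j, f j ∘ₗ LinearMap.proj j

omit [FiniteDimensional K V] [FiniteDimensional K W] in
lemma sumMap_apply (f : Fin n → (V →ₗ[K] W)) (v : Fin n → V) : sumMap f v = ∑ j, f j (v j) := by
  simp [sumMap]

omit [FiniteDimensional K V] [FiniteDimensional K W] in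
lemma sumMap_single (f : Fin n → (V →ₗ[K] W)) (j : Fin n) (v : V) :
    sumMap f (Pi.single j v) = f j v := by
  classical
  rw [sumMap_apply, Finset.sum_eq_single j]
  · simp
  · intro b _ hb; simp [hb]
  · simp

omit [FiniteDimensional K V] in
lemma span_image_le (f : Fin n → (V →ₗ[K] W)) (W' : Submodule K W) (V' : Submodule K V)
    (h : IsSubrep f V' W') :
    LinearMap.range (sumMap f ∘ₗ (LinearMap.pi fun j => V'.subtype ∘ₗ LinearMap.proj j :
      (Fin n → V') →ₗ[K] (Fin n → V))) ≤ W' := by
  rintro _ ⟨x, rfl⟩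
  show sumMap f _ ∈ W'
  rw [sumMap_apply]
  exact W'.sum_mem fun j _ => h j ⟨_, (x j).2, rfl⟩

omit [FiniteDimensional K V] [FiniteDimensional K W] in
lemma isSubrep_sum (f : Fin n → (V →ₗ[K] W)) : IsSubrep f ⊤ (LinearMap.range (sumMap f)) := by
  rintro j _ ⟨v, -, rfl⟩
  exact ⟨Pi.single j v, sumMap_single f j v⟩

omit [FiniteDimensional K V] [FiniteDimensional K W] in
lemma isSubrep_ker (f : Fin n → (V →ₗ[K] W)) : IsSubrep f (LinearMap.ker (LinearMap.pi f)) ⊥ := by
  rintro j _ ⟨v, hv, rfl⟩
  simpa using congrFun hv j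

lemma finrank_pi_const' (M : Type*) [AddCommGroup M] [Module K M] [FiniteDimensional K M] (n : ℕ) :
    finrank K (Fin n → M) = n * finrank K M := by
  rw [Module.finrank_pi_fintype]; simp

lemma sumMap_surjective (f : Fin n → (V →ₗ[K] W)) (hV : 0 < finrank K V)
    (hf : IsSemistable f) : Function.Surjective (sumMap f) := by
  rw [← LinearMap.range_eq_top]
  by_contra h
  have hne : (⊤ : Submodule K V) ≠ ⊥ := by
    intro h'; rw [← finrank_top K V, h', finrank_bot] at hV; omega
  have := hf.2 ⊤ _ (isSubrep_sum f) (fun hh => hne hh.1) (fun hh => h hh.2)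
  rw [finrank_top, mul_comm] at this
  have h1 := Submodule.finrank_lt h
  exact absurd (Nat.le_of_mul_le_mul_left this hV) (by omega)

lemma piMap_injective (f : Fin n → (V →ₗ[K] W)) (hW : 0 < finrank K W)
    (hf : IsSemistable f) : Function.Injective (LinearMap.pi f) := by
  rw [← LinearMap.ker_eq_bot]
  by_contra h
  have hne : (⊥ : Submodule K W) ≠ ⊤ := by
    intro h'; rw [← finrank_top K W, ← h', finrank_bot] at hW; omega
  have := hf.2 _ ⊥ (isSubrep_ker f) (fun hh => h hh.1) (fun hh => hne hh.2)
  rw [finrank_bot, mul_zero, Nat.le_zero, mul_eq_zero] at this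
  rcases this with h' | h'
  · omega
  · exact h (Submodule.finrank_eq_zero.1 h')

lemma finrank_le_of_sum_injective (f : Fin n → (V →ₗ[K] W)) (hS : Function.Injective (sumMap f))
    {V' : Submodule K V} {W' : Submodule K W} (h : IsSubrep f V' W') :
    n * finrank K V' ≤ finrank K W' := by
  have h1 := Submodule.finrank_mono (span_image_le f W' V' h)
  rwa [LinearMap.finrank_range_of_inj, finrank_pi_const'] at h1
  intro x y hxy
  have := hS hxy
  funext j
  exact Subtype.ext (congrFun this j)

lemma finrank_le_of_pi_injective (f : Fin n → (V →ₗ[K] W)) (hP : Function.Injective (LinearMap.pi f))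
    {V' : Submodule K V} {W' : Submodule K W} (h : IsSubrep f V' W') :
    finrank K V' ≤ n * finrank K W' := by
  rw [← finrank_pi_const' (K := K) W' n]
  refine LinearMap.finrank_le_finrank_of_injective
    (f := (LinearMap.pi fun j => ((f j).restrict (p := V') (q := W') fun x hx => h j ⟨x, hx, rfl⟩))) ?_
  intro x y hxy
  apply Subtype.ext
  apply hP
  funext j
  exact congrArg Subtype.val (congrFun hxy j)

theorem semistable_iff_sum (f : Fin n → (V →ₗ[K] W)) (hV : 0 < finrank K V)
    (hW : finrank K W = n * finrank K V) : IsSemistable f ↔ Function.Bijective (sumMap f) := by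
  have hd : finrank K (Fin n → V) = finrank K W := by rw [finrank_pi_const', hW]
  constructor
  · intro hf
    have hs := sumMap_surjective f hV hf
    exact ⟨(LinearMap.injective_iff_surjective_of_finrank_eq_finrank hd).2 hs, hs⟩
  · intro hS
    refine ⟨by omega, fun V' W' h _ _ => ?_⟩
    calc finrank K W * finrank K V' = finrank K V * (n * finrank K V') := by rw [hW]; ring
      _ ≤ _ := Nat.mul_le_mul_left _ (finrank_le_of_sum_injective f hS.1 h)

theorem semistable_iff_pi (f : Fin n → (V →ₗ[K] W)) (hW : 0 < finrank K W)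
    (hV : finrank K V = n * finrank K W) : IsSemistable f ↔ Function.Bijective (LinearMap.pi f) := by
  have hd : finrank K V = finrank K (Fin n → W) := by rw [finrank_pi_const', hV]
  constructor
  · intro hf
    have hi := piMap_injective f hW hf
    exact ⟨hi, (LinearMap.injective_iff_surjective_of_finrank_eq_finrank hd).1 hi⟩
  · intro hP
    refine ⟨by omega, fun V' W' h _ _ => ?_⟩
    calc finrank K W * finrank K V' ≤ finrank K W * (n * finrank K W') :=
          Nat.mul_le_mul_left _ (finrank_le_of_pi_injective f hP.1 h)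
      _ = _ := by rw [hV]; ring

omit [FiniteDimensional K V] [FiniteDimensional K W] in
theorem isStable_semistable {f : Fin n → (V →ₗ[K] W)} (h : IsStable f) : IsSemistable f :=
  ⟨h.1, fun V' W' a b c => (h.2 V' W' a b c).le⟩

/-! ### duality -/

omit [FiniteDimensional K V] [FiniteDimensional K W] in
lemma isSubrep_dual {f : Fin n → (V →ₗ[K] W)} {V' : Submodule K V} {W' : Submodule K W}
    (h : IsSubrep f V' W') :
    IsSubrep (fun j => (f j).dualMap) W'.dualAnnihilator V'.dualAnnihilator := by
  rintro j _ ⟨φ, hφ, rfl⟩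
  rw [Submodule.mem_dualAnnihilator]
  intro v hv
  exact (Submodule.mem_dualAnnihilator φ).1 hφ _ (h j ⟨v, hv, rfl⟩)

omit [FiniteDimensional K V] [FiniteDimensional K W] in
lemma isSubrep_codual {f : Fin n → (V →ₗ[K] W)} {A : Submodule K (Dual K W)} {B : Submodule K (Dual K V)}
    (h : IsSubrep (fun j => (f j).dualMap) A B) :
    IsSubrep f B.dualCoannihilator A.dualCoannihilator := by
  rintro j _ ⟨v, hv, rfl⟩
  rw [Submodule.mem_dualCoannihilator]
  intro φ hφ
  exact (Submodule.mem_dualCoannihilator v).1 hv _ (h j ⟨φ, hφ, rfl⟩)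

theorem dual_iff (f : Fin n → (V →ₗ[K] W)) (R : ℕ → ℕ → Prop)
    (hR : ∀ a b a' b', a' ≤ a → b' ≤ b → (R (a * (b - b')) (b * (a - a')) ↔ R (b * a') (a * b'))) :
    (∀ (V' : Submodule K V) (W' : Submodule K W), IsSubrep f V' W' →
      ¬ (V' = ⊥ ∧ W' = ⊥) → ¬ (V' = ⊤ ∧ W' = ⊤) →
      R (finrank K W * finrank K V') (finrank K V * finrank K W')) ↔
    (∀ (A : Submodule K (Dual K W)) (B : Submodule K (Dual K V)), IsSubrep (fun j => (f j).dualMap) A B →
      ¬ (A = ⊥ ∧ B = ⊥) → ¬ (A = ⊤ ∧ B = ⊤) →
      R (finrank K (Dual K V) * finrank K A) (finrank K (Dual K W) * finrank K B)) := by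
  have hB : ∀ B : Submodule K (Dual K V), B.dualCoannihilator.dualAnnihilator = B :=
    fun B => Subspace.dualCoannihilator_dualAnnihilator_eq
  have hA : ∀ A : Submodule K (Dual K W), A.dualCoannihilator.dualAnnihilator = A :=
    fun A => Subspace.dualCoannihilator_dualAnnihilator_eq
  simp only [Subspace.dual_finrank_eq]
  constructor
  · intro h A B hAB h1 h2
    have hv := Subspace.finrank_add_finrank_dualAnnihilator_eq B.dualCoannihilator
    have hw := Subspace.finrank_add_finrank_dualAnnihilator_eq A.dualCoannihilator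
    rw [hB] at hv
    rw [hA] at hw
    have := h _ _ (isSubrep_codual hAB)
      (fun ⟨a, b⟩ => h2 ⟨by rw [← hA A, b]; simp, by rw [← hB B, a]; simp⟩)
      (fun ⟨a, b⟩ => h1 ⟨by rw [← hA A, b]; simp, by rw [← hB B, a]; simp⟩)
    rw [← hR _ _ _ _ (Submodule.finrank_le _) (Submodule.finrank_le _)] at this
    rwa [show finrank K W - finrank K A.dualCoannihilator = finrank K A by omega,
      show finrank K V - finrank K B.dualCoannihilator = finrank K B by omega] at this
  · intro h V' W' hVW h1 h2
    have hv := Subspace.finrank_add_finrank_dualAnnihilator_eq V'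
    have hw := Subspace.finrank_add_finrank_dualAnnihilator_eq W'
    have hVb := Subspace.dualAnnihilator_dualCoannihilator_eq (W := V')
    have hWb := Subspace.dualAnnihilator_dualCoannihilator_eq (W := W')
    have := h _ _ (isSubrep_dual hVW)
      (fun ⟨a, b⟩ => h2 ⟨by rw [← hVb, b]; simp, by rw [← hWb, a]; simp⟩)
      (fun ⟨a, b⟩ => h1 ⟨by rw [← hVb, b]; simp, by rw [← hWb, a]; simp⟩)
    rw [← hR _ _ _ _ (Submodule.finrank_le _) (Submodule.finrank_le _)]
    rwa [show finrank K W - finrank K W' = finrank K W'.dualAnnihilator by omega,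
      show finrank K V - finrank K V' = finrank K V'.dualAnnihilator by omega]

/-! ### two arrows -/

lemma contradiction_of_subrep {f : Fin n → (V →ₗ[K] W)} (hf : IsSemistable f) {k : ℕ}
    (hV : finrank K V = k) (hW : finrank K W = k) {V' : Submodule K V} {W' : Submodule K W}
    (h : IsSubrep f V' W') (hlt : finrank K W' < finrank K V') : False := by
  have := hf.2 V' W' h (fun ⟨a, _⟩ => by rw [a, finrank_bot] at hlt; omega)
    (fun ⟨a, b⟩ => by rw [a, b, finrank_top, finrank_top] at hlt; omega)
  rw [hV, hW] at this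
  have hk : 0 < k := by have := Submodule.finrank_le V'; omega
  exact absurd (Nat.le_of_mul_le_mul_left this hk) (by omega)

omit [FiniteDimensional K W] in
lemma finrank_map_lt {g : V →ₗ[K] W} {V' : Submodule K V} {v : V} (hv : v ∈ V') (hne : v ≠ 0)
    (h0 : g v = 0) : finrank K (V'.map g) < finrank K V' := by
  have h1 := LinearMap.finrank_range_add_finrank_ker (g.domRestrict V')
  rw [LinearMap.range_domRestrict] at h1
  have h2 : 0 < finrank K (LinearMap.ker (g.domRestrict V')) := by
    rw [Nat.pos_iff_ne_zero, Ne, Submodule.finrank_eq_zero, ← Ne, Submodule.ne_bot_iff]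
    exact ⟨⟨v, hv⟩, h0, fun h => hne (congrArg Subtype.val h)⟩
  omega

lemma exists_seq [Infinite K] {k : ℕ} (A B : Matrix (Fin k) (Fin k) K)
    (h : ∀ t : K, (A + t • B).det = 0) :
    ∃ w : ℕ → Fin k → K, A.mulVec (w 0) = 0 ∧ (∀ r, A.mulVec (w (r + 1)) + B.mulVec (w r) = 0) ∧
      ∃ r, w r ≠ 0 := by
  classical
  let M : Matrix (Fin k) (Fin k) (Polynomial K) :=
    Matrix.of fun i j => Polynomial.C (A i j) + Polynomial.X * Polynomial.C (B i j)
  have hdet : M.det = 0 := by
    refine Polynomial.funext fun t => ?_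
    rw [Polynomial.eval_zero, ← h t, ← Polynomial.coe_evalRingHom, RingHom.map_det]
    congr 1
    ext i j
    simp [M]; ring
  obtain ⟨P, hP, hMP⟩ := Matrix.exists_mulVec_eq_zero_iff.2 hdet
  have hrow : ∀ i, ∑ l, (Polynomial.C (A i l) * P l + Polynomial.X * (Polynomial.C (B i l) * P l)) = 0 := by
    intro i
    refine Eq.trans (Finset.sum_congr rfl fun l _ => ?_) (congrFun hMP i)
    show _ = M i l * P l
    simp only [M, Matrix.of_apply, add_mul, mul_assoc]
  refine ⟨fun r l => (P l).coeff r, ?_, fun r => ?_, ?_⟩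
  · funext i
    have h0 := congrArg (fun q => Polynomial.coeff q 0) (hrow i)
    simp only [Polynomial.finsetSum_coeff, Polynomial.coeff_add, Polynomial.coeff_C_mul,
      Polynomial.coeff_X_mul_zero, add_zero, Polynomial.coeff_zero] at h0
    exact h0
  · funext i
    have h0 := congrArg (fun q => Polynomial.coeff q (r + 1)) (hrow i)
    simp only [Polynomial.finsetSum_coeff, Polynomial.coeff_add, Polynomial.coeff_C_mul,
      Polynomial.coeff_X_mul, Polynomial.coeff_zero, Finset.sum_add_distrib] at h0
    exact h0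
  · by_contra h0
    push Not at h0
    apply hP
    funext l
    exact Polynomial.ext fun r => by simpa using congrFun (h0 r) l

/-- A singular pencil destabilises. -/
theorem exists_bijective_two [IsAlgClosed K] (f : Fin 2 → (V →ₗ[K] W)) (k : ℕ)
    (hV : finrank K V = k) (hW : finrank K W = k) (hf : IsSemistable f) :
    ∃ z : Fin 2 → K, Function.Bijective ((∑ j, z j • f j : V →ₗ[K] W) : V → W) := by
  classical
  by_contra hno
  push Not at hno
  let bV := finBasisOfFinrankEq K V hV
  let bW := finBasisOfFinrankEq K W hW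
  have hmv : ∀ (g : V →ₗ[K] W) (x : Fin k → K),
      (LinearMap.toMatrix bV bW g).mulVec x = bW.equivFun (g (bV.equivFun.symm x)) := by
    intro g x
    have h1 := LinearMap.toMatrix_mulVec_repr bV bW g (bV.equivFun.symm x)
    have h2 : (bV.repr (bV.equivFun.symm x) : Fin k → K) = x := bV.equivFun.apply_symm_apply x
    rw [h2] at h1
    exact h1
  have hdet : ∀ t : K, (LinearMap.toMatrix bV bW (f 0) + t • LinearMap.toMatrix bV bW (f 1)).det = 0 := by
    intro t
    by_contra ht
    refine hno ![1, t] ?_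
    have hs : (∑ j, ![1, t] j • f j) = f 0 + t • f 1 := by simp [Fin.sum_univ_two]
    rw [hs]
    have hinj : Function.Injective ((f 0 + t • f 1 : V →ₗ[K] W) : V → W) := by
      intro x y hxy
      have hi := Matrix.mulVec_injective_of_isUnit
        ((Matrix.isUnit_iff_isUnit_det _).2 (isUnit_iff_ne_zero.2 ht))
      apply bV.equivFun.injective
      apply hi
      rw [← map_smul, ← map_add, hmv, hmv, LinearEquiv.symm_apply_apply, LinearEquiv.symm_apply_apply, hxy]
    exact ⟨hinj, (LinearMap.injective_iff_surjective_of_finrank_eq_finrank (hV.trans hW.symm)).1 hinj⟩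
  obtain ⟨w, hzero, hsucc, hex⟩ := exists_seq _ _ hdet
  simp only [hmv] at hzero hsucc
  let w' : ℕ → V := fun r => bV.equivFun.symm (w r)
  have hzero' : f 0 (w' 0) = 0 := bW.equivFun.injective (by rw [map_zero]; exact hzero)
  have hsucc' : ∀ r, f 0 (w' (r + 1)) + f 1 (w' r) = 0 := fun r =>
    bW.equivFun.injective (by rw [map_zero, map_add]; exact hsucc r)
  have hex' : ∃ r, w' r ≠ 0 := hex.imp fun r hr h => hr (bV.equivFun.symm.injective (h.trans (map_zero _).symm))
  let r₀ := Nat.find hex'
  have hr0 : f 0 (w' r₀) = 0 := by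
    rcases Nat.eq_zero_or_pos r₀ with h | h
    · rw [h]; exact hzero'
    · obtain ⟨r, hr⟩ := Nat.exists_eq_succ_of_ne_zero (by omega : r₀ ≠ 0)
      have := hsucc' r
      rw [not_not.1 (Nat.find_min hex' (show r < Nat.find hex' by omega)), map_zero, add_zero] at this
      rw [hr]; exact this
  let V' : Submodule K V := Submodule.span K (Set.range w')
  refine contradiction_of_subrep hf hV hW (V' := V') (W' := V'.map (f 0)) ?_
    (finrank_map_lt (Submodule.subset_span ⟨r₀, rfl⟩) (Nat.find_spec hex') hr0)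
  intro j
  fin_cases j
  · exact le_rfl
  · show V'.map (f 1) ≤ _
    rw [Submodule.map_span, Submodule.span_le]
    rintro _ ⟨_, ⟨r, rfl⟩, rfl⟩
    refine ⟨-w' (r + 1), neg_mem (Submodule.subset_span ⟨r + 1, rfl⟩), ?_⟩
    rw [map_neg, neg_eq_iff_add_eq_zero]
    exact hsucc' r

omit [FiniteDimensional K W] in
lemma finrank_map_span_singleton_le (g : V →ₗ[K] W) (v : V) :
    finrank K (((K ∙ v) : Submodule K V).map g) ≤ 1 := by
  refine (Submodule.finrank_map_le g _).trans ?_
  rcases eq_or_ne v 0 with rfl | hv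
  · rw [Submodule.span_zero_singleton, finrank_bot]; omega
  · rw [finrank_span_singleton hv]

end Groth.Misc10.Kron
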