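import Groth.Agent.Misc10.Arith
import Mathlib.LinearAlgebra.Dimension.Finite

/-! Weighted monomials in three and five variables, and the relations between them in quotient rings. -/

set_option autoImplicit false

namespace Groth.Misc10

open W4c2invhilbsl2 MvPolynomial

universe u

/-- triple to exponent vector -/
noncomputable def tri (a b c : ℕ) : Fin 3 →₀ ℕ := Finsupp.equivFunOnFinite.symm ![a, b, c]

@[simp] lemma tri_zero (a b c : ℕ) : tri a b c 0 = a := by simp [tri]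
@[simp] lemma tri_one (a b c : ℕ) : tri a b c 1 = b := by simp [tri]
@[simp] lemma tri_two (a b c : ℕ) : tri a b c 2 = c := by simp [tri]

lemma eq_tri (d : Fin 3 →₀ ℕ) : d = tri (d 0) (d 1) (d 2) := by
  ext i; fin_cases i <;> simp

lemma monomial_three {k : Type u} [CommSemiring k] (d : Fin 3 →₀ ℕ) :
    (monomial d (1 : k)) = X 0 ^ d 0 * X 1 ^ d 1 * X 2 ^ d 2 := by
  rw [monomial_eq, Finsupp.prod_fintype _ _ (fun _ => pow_zero _), Fin.prod_univ_three]; simp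

lemma monomial_five {k : Type u} [CommSemiring k] (d : Fin 5 →₀ ℕ) :
    (monomial d (1 : k)) = X 0 ^ d 0 * X 1 ^ d 1 * X 2 ^ d 2 * X 3 ^ d 3 * X 4 ^ d 4 := by
  rw [monomial_eq, Finsupp.prod_fintype _ _ (fun _ => pow_zero _), Fin.prod_univ_five]; simp

/-- weight of `(a, b, c)` for `wt3` -/
def W3 (p q m : ℕ) (a b c : ℤ) : ℤ × ZMod m := (a - p * b + q * c, ((c - b : ℤ) : ZMod m))

lemma weight_wt3 (p q m : ℕ) (d : Fin 3 →₀ ℕ) :
    Finsupp.weight (wt3 p q m) d = W3 p q m (d 0) (d 1) (d 2) := by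
  rw [Finsupp.weight_apply, Finsupp.sum_fintype _ (fun i c => c • wt3 p q m i) (fun i => zero_smul ℕ _),
    Fin.sum_univ_three]
  simp [wt3, W3, Prod.ext_iff, nsmul_eq_mul, Int.cast_sub]
  constructor <;> ring

lemma weight_wt5 (p q m : ℕ) (d : Fin 5 →₀ ℕ) :
    Finsupp.weight (wt5 p q m) d = W3 p q m (d 0) (d 1 + d 2) (d 3 + d 4) := by
  rw [Finsupp.weight_apply, Finsupp.sum_fintype _ (fun i c => c • wt5 p q m i) (fun i => zero_smul ℕ _),
    Fin.sum_univ_five]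
  simp [wt5, W3, Prod.ext_iff, nsmul_eq_mul, Int.cast_sub, Int.cast_add]
  constructor <;> ring

lemma W3_eq_iff (p q m : ℕ) (a b c a' b' c' : ℤ) :
    W3 p q m a b c = W3 p q m a' b' c' ↔
      a - p * b + q * c = a' - p * b' + q * c' ∧ (m : ℤ) ∣ (b - c) - (b' - c') := by
  simp only [W3, Prod.mk.injEq]
  refine and_congr_right fun _ => ?_
  rw [← sub_eq_zero, ← Int.cast_sub, ZMod.intCast_zmod_eq_zero_iff_dvd]
  rw [← dvd_neg, show -((c - b) - (c' - b')) = (b - c) - (b' - c') by ring]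

lemma W3_eq_mk (p q m : ℕ) (a b c n r : ℤ) :
    W3 p q m a b c = (n, (r : ZMod m)) ↔ a - p * b + q * c = n ∧ (m : ℤ) ∣ (b - c) + r := by
  simp only [W3, Prod.mk.injEq]
  refine and_congr_right fun _ => ?_
  rw [← sub_eq_zero, ← Int.cast_sub, ZMod.intCast_zmod_eq_zero_iff_dvd]
  rw [← dvd_neg, show -((c - b) - r) = (b - c) + r by ring]

lemma W3_eq_zero (p q m : ℕ) (a b c : ℤ) :
    W3 p q m a b c = 0 ↔ a - p * b + q * c = 0 ∧ (m : ℤ) ∣ b - c := by
  have h := W3_eq_mk p q m a b c 0 0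
  simpa [Prod.zero_eq_mk] using h

/-- membership of a weighted homogeneous polynomial in a submodule -/
lemma mem_of_monomials {σ : Type*} {M : Type*} [AddCommMonoid M] {k : Type u} [CommSemiring k]
    {w : σ → M} {ν : M} {T : Submodule k (MvPolynomial σ k)}
    (h : ∀ d, Finsupp.weight w d = ν → monomial d (1 : k) ∈ T) {f : MvPolynomial σ k}
    (hf : f ∈ weightedHomogeneousSubmodule k w ν) : f ∈ T := by
  rw [f.as_sum]
  refine T.sum_mem fun d hd => ?_
  have : monomial d (coeff d f) = coeff d f • monomial d (1 : k) := by simp [smul_monomial]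
  rw [this]
  exact T.smul_mem _ (h d (hf (mem_support_iff.1 hd)))

lemma monomial_mem_piece {σ : Type*} {M : Type*} [AddCommMonoid M] {k : Type u} [CommSemiring k]
    {w : σ → M} {d : σ →₀ ℕ} {ν : M} (h : Finsupp.weight w d = ν) :
    monomial d (1 : k) ∈ weightedHomogeneousSubmodule k w ν :=
  isWeightedHomogeneous_monomial w d 1 h

lemma rank_piece_le_one {σ : Type} {M : Type} [AddCommMonoid M] (k : Type u) [Field k]
    {w : σ → M} {I : Ideal (MvPolynomial σ k)} {ν : M} (v : MvPolynomial σ k ⧸ I)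
    (h : ∀ d, Finsupp.weight w d = ν → ∃ a : k, Ideal.Quotient.mk I (monomial d 1) = a • v) :
    Module.rank k (piece k w I ν) ≤ 1 := by
  have hle : piece k w I ν ≤ Submodule.span k {v} := by
    rw [piece, Submodule.map_le_iff_le_comap]
    intro f hf
    refine mem_of_monomials (fun d hd => ?_) hf
    obtain ⟨a, ha⟩ := h d hd
    exact Submodule.mem_span_singleton.2 ⟨a, ha.symm⟩
  refine (Submodule.rank_mono hle).trans ((rank_span_le _).trans ?_)
  simp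

/-- the same for three variables with reindexing -/
lemma rank_piece_le_one' {σ : Type} {M : Type} [AddCommMonoid M] (k : Type u) [Field k]
    {w : σ → M} {I : Ideal (MvPolynomial σ k)} {ν : M} (S : (σ →₀ ℕ) → Prop)
    (h0 : ∀ d, Finsupp.weight w d = ν → ¬ S d → Ideal.Quotient.mk I (monomial d 1) = 0)
    (N : (σ →₀ ℕ) → ℕ)
    (h : ∀ d e, Finsupp.weight w d = ν → Finsupp.weight w e = ν → S d → S e → N e ≤ N d →
      ∃ a : k, Ideal.Quotient.mk I (monomial d 1) = a • Ideal.Quotient.mk I (monomial e 1)) :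
    Module.rank k (piece k w I ν) ≤ 1 := by
  classical
  by_cases hne : ∃ n d, Finsupp.weight w d = ν ∧ S d ∧ N d = n
  · obtain ⟨e, he, hSe, hNe⟩ := Nat.find_spec hne
    refine rank_piece_le_one k (Ideal.Quotient.mk I (monomial e 1)) fun d hd => ?_
    by_cases hS : S d
    · exact h d e hd he hS hSe (hNe ▸ Nat.find_min' hne ⟨d, hd, hS, rfl⟩)
    · exact ⟨0, by rw [h0 d hd hS, zero_smul]⟩
  · exact rank_piece_le_one k 0 fun d hd =>
      ⟨0, by rw [h0 d hd (fun hS => hne ⟨_, d, hd, hS, rfl⟩), zero_smul]⟩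

section Rel

variable {R : Type*} [CommRing R]

/-- With `x ^ D = y z`, monomials with the same `n` and `c` are equal. -/
lemma rel_same {p q : ℕ} (hpq : p < q) (x y z : R) (hxyz : x ^ (q - p) = y * z) {d0 d1 d2 e0 e1 e2 : ℕ}
    (hn : (e0 : ℤ) - p * e1 + q * e2 = (d0 : ℤ) - p * d1 + q * d2)
    (hc : (d1 : ℤ) - d2 = (e1 : ℤ) - e2) :
    x ^ d0 * y ^ d1 * z ^ d2 = x ^ e0 * y ^ e1 * z ^ e2 := by
  wlog hle : d2 ≤ e2 generalizing d0 d1 d2 e0 e1 e2
  · exact (this hn.symm hc.symm (by omega)).symm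
  obtain ⟨j, rfl⟩ := Nat.exists_eq_add_of_le hle
  obtain rfl : e1 = d1 + j := by omega
  have : d0 = e0 + (q - p) * j := by
    have h : (d0 : ℤ) = e0 + ((q - p : ℕ) : ℤ) * j := by
      rw [Nat.cast_sub hpq.le]; push_cast at hn; linarith
    exact_mod_cast h
  subst this
  rw [pow_add, pow_mul, hxyz, mul_pow]; ring

/-- Monomials of the same weight differ by a power of `τ = x ^ (m p) y ^ m`. -/
lemma rel_shift {p q : ℕ} (m : ℕ) (hpq : p < q) (x y z : R) (hxyz : x ^ (q - p) = y * z)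
    {d0 d1 d2 e0 e1 e2 j : ℕ}
    (hn : (e0 : ℤ) - p * e1 + q * e2 = (d0 : ℤ) - p * d1 + q * d2)
    (hc : (d1 : ℤ) - d2 = (e1 : ℤ) - e2 + m * j) :
    x ^ d0 * y ^ d1 * z ^ d2 = (x ^ (m * p) * y ^ m) ^ j * (x ^ e0 * y ^ e1 * z ^ e2) := by
  rw [rel_same hpq x y z hxyz (e0 := e0 + m * p * j) (e1 := e1 + m * j) (e2 := e2)
    (by push_cast; linarith) (by push_cast; linarith)]
  ring

end Rel

lemma exists_shift_I {p q m : ℕ} (hp : 0 < p) {d0 d1 d2 e0 e1 e2 : ℕ}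
    (hn : (e0 : ℤ) - p * e1 + q * e2 = (d0 : ℤ) - p * d1 + q * d2)
    (hc : (m : ℤ) ∣ ((d1 : ℤ) - d2) - ((e1 : ℤ) - e2))
    (hle : e0 + (q - p) * e2 ≤ d0 + (q - p) * d2) (hpq : p < q) :
    ∃ j : ℕ, (d1 : ℤ) - d2 = (e1 : ℤ) - e2 + m * j := by
  obtain ⟨x, hx⟩ := hc
  have h : (e0 : ℤ) + ((q : ℤ) - p) * e2 ≤ (d0 : ℤ) + ((q : ℤ) - p) * d2 := by
    have := (Int.ofNat_le.2 hle); push_cast [Nat.cast_sub hpq.le] at this; exact this
  have h1 : 0 ≤ (p : ℤ) * ((m : ℤ) * x) := by rw [← hx]; linarith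
  have hp' : (0 : ℤ) < p := by exact_mod_cast hp
  rcases Nat.eq_zero_or_pos m with rfl | hm
  · exact ⟨0, by simp at hx ⊢; linarith⟩
  · have hm' : (0 : ℤ) < m := by exact_mod_cast hm
    have h2 : 0 ≤ x := by
      by_contra h2
      nlinarith [mul_neg_of_pos_of_neg (mul_pos hp' hm') (not_le.1 h2)]
    exact ⟨x.toNat, by rw [Int.toNat_of_nonneg h2]; linarith⟩

/-- Two monomials of the same weight, both with small `X₀`-degree. -/
lemma small_shift {p q m : ℕ} (hpq : p < q) (hcop : Nat.Coprime p q) (hm : 0 < m)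
    {d0 d1 d2 e0 e1 e2 : ℕ}
    (hn : (e0 : ℤ) - p * e1 + q * e2 = (d0 : ℤ) - p * d1 + q * d2)
    (hc : (m : ℤ) ∣ ((d1 : ℤ) - d2) - ((e1 : ℤ) - e2))
    (hd : d0 < Nat.gcd m (q - p)) (he : e0 < Nat.gcd m (q - p)) :
    d0 = e0 ∧ ∃ w : ℤ, (d1 : ℤ) = e1 + w * ((m / Nat.gcd m (q - p) * q : ℕ) : ℤ) ∧
      (d2 : ℤ) = e2 + w * ((m / Nat.gcd m (q - p) * p : ℕ) : ℤ) := by
  set g := Nat.gcd m (q - p) with hg
  have hgpos : 0 < g := Nat.gcd_pos_of_pos_left _ hm
  obtain ⟨a, ha⟩ : g ∣ m := Nat.gcd_dvd_left _ _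
  obtain ⟨b, hb⟩ : g ∣ q - p := Nat.gcd_dvd_right _ _
  have hab : Nat.Coprime a b := by
    have h := Nat.gcd_mul_left g a b
    rw [← ha, ← hb, ← hg] at h
    exact Nat.eq_of_mul_eq_mul_left hgpos (by simpa using h.symm)
  have hdiv : m / g = a := by rw [ha]; exact Nat.mul_div_cancel_left _ hgpos
  rw [hdiv]
  have hD : (q : ℤ) - p = (g : ℤ) * b := by rw [← Nat.cast_mul, ← hb, Nat.cast_sub hpq.le]
  obtain ⟨x, hx⟩ := hc
  have h0 : d0 = e0 := by
    have hdvd : (g : ℤ) ∣ (d0 : ℤ) - e0 := by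
      refine ⟨(p : ℤ) * (a * x) - (b : ℤ) * ((d2 : ℤ) - e2), ?_⟩
      have hm' : (m : ℤ) = (g : ℤ) * a := by exact_mod_cast ha
      linear_combination (-1 : ℤ) * hn + (p : ℤ) * hx + (p : ℤ) * x * hm' - ((d2 : ℤ) - e2) * hD
    have := Int.eq_zero_of_abs_lt_dvd hdvd (by rw [abs_lt]; constructor <;> omega)
    omega
  refine ⟨h0, ?_⟩
  subst h0
  have h1 : (p : ℤ) * ((d1 : ℤ) - e1) = (q : ℤ) * ((d2 : ℤ) - e2) := by linarith
  have hpqc : IsCoprime (q : ℤ) (p : ℤ) := Nat.isCoprime_iff_coprime.2 hcop.symm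
  obtain ⟨u, hu⟩ : (q : ℤ) ∣ (d1 : ℤ) - e1 := hpqc.dvd_of_dvd_mul_left ⟨_, h1⟩
  have hu2 : (d2 : ℤ) - e2 = (p : ℤ) * u := by
    have : (q : ℤ) ≠ 0 := by omega
    apply mul_left_cancel₀ this
    rw [← h1, hu]; ring
  have hau : (a : ℤ) ∣ u := by
    refine (Nat.isCoprime_iff_coprime.2 hab).dvd_of_dvd_mul_left ⟨x, ?_⟩
    have hm' : (m : ℤ) = (g : ℤ) * a := by exact_mod_cast ha
    apply mul_left_cancel₀ (show (g : ℤ) ≠ 0 by positivity)
    linear_combination hx - hu + hu2 + x * hm' - u * hD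
  obtain ⟨w, rfl⟩ := hau
  exact ⟨w, by push_cast; linarith, by push_cast; linarith⟩

end Groth.Misc10
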