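import Mathlib

/-! Two endomorphisms adjoint up to a scalar under a perfect pairing. -/

set_option autoImplicit false

universe u v w

namespace Groth.Misc10.PairingCharpoly

open Polynomial

variable {K : Type u} [Field K]

lemma matrix_identity {ι : Type*} [Fintype ι] [DecidableEq ι] (M N : Matrix ι ι K) {c : K}
    (h : M * N = c • (1 : Matrix ι ι K)) :
    M.det • N.charpolyRev = (-1 : K[X]) ^ Fintype.card ι * M.charpoly.comp (C c * X) := by
  have h1 : M.charpoly.comp (C c * X) = ((C c * X) • (1 : Matrix ι ι K[X]) - M.map C).det := by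
    rw [Matrix.charpoly, ← Polynomial.coe_compRingHom_apply, RingHom.map_det]
    congr 1
    ext i j
    by_cases hij : i = j
    · subst hij; simp
    · simp [hij]
  rw [h1, Matrix.charpolyRev, Polynomial.smul_eq_C_mul, RingHom.map_det, ← Matrix.det_mul, ← Matrix.det_neg]
  congr 1
  rw [RingHom.mapMatrix_apply, Matrix.mul_sub, Matrix.mul_one, Matrix.mul_smul, ← Matrix.map_mul, h, neg_sub]
  congr 1
  ext i j
  by_cases hij : i = j
  · subst hij
    simp only [Matrix.smul_apply, Matrix.map_apply, Matrix.one_apply_eq, smul_eq_mul, mul_one]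
    rw [mul_comm X (C c)]
  · simp [hij]

variable {V : Type v} [AddCommGroup V] [Module K V] [Module.Finite K V]
  {W : Type w} [AddCommGroup W] [Module K W] [Module.Finite K W]

lemma exists_matrices (β : W →ₗ[K] V →ₗ[K] K) (hβ : Function.Bijective β)
    (A : V →ₗ[K] V) (B : W →ₗ[K] W) {c : K} (hc : c ≠ 0) (h : ∀ w v, β (B w) (A v) = c * β w v) :
    ∃ M N : Matrix (Fin (Module.finrank K V)) (Fin (Module.finrank K V)) K,
      M * N = c • (1 : Matrix (Fin (Module.finrank K V)) (Fin (Module.finrank K V)) K) ∧ A.det = M.det ∧ B.det = N.det ∧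
      A.charpoly = M.charpoly ∧ B.charpoly = N.charpoly := by
  classical
  let e := Module.finBasis K V
  let D : W ≃ₗ[K] Module.Dual K V := LinearEquiv.ofBijective β hβ
  let f : Module.Basis (Fin (Module.finrank K V)) K W := e.dualBasis.map D.symm
  have hf : ∀ l a, β (f l) (e a) = if a = l then 1 else 0 := fun l a => by
    have : β (f l) = e.dualBasis l := D.apply_symm_apply _
    rw [this, e.dualBasis_apply_self]
  set MA := LinearMap.toMatrix e e A
  set MB := LinearMap.toMatrix f f B
  have hA : ∀ a, A (e a) = ∑ m, MA m a • e m := fun a => by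
    conv_lhs => rw [← e.sum_repr (A (e a))]
    simp [MA, LinearMap.toMatrix_apply]
  have hB : ∀ l, B (f l) = ∑ m, MB m l • f m := fun l => by
    conv_lhs => rw [← f.sum_repr (B (f l))]
    simp [MB, LinearMap.toMatrix_apply]
  have h1 : MB.transpose * MA = c • (1 : Matrix (Fin (Module.finrank K V)) (Fin (Module.finrank K V)) K) := by
    ext l a
    have := h (f l) (e a)
    rw [hA, hB] at this
    simp only [map_sum, map_smul, LinearMap.coe_sum, Finset.sum_apply, LinearMap.smul_apply, smul_eq_mul,
      hf, mul_ite, mul_one, mul_zero, Finset.sum_ite_eq, Finset.mem_univ, if_true] at this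
    rw [Matrix.mul_apply, Matrix.smul_apply, Matrix.one_apply]
    simp only [Matrix.transpose_apply, smul_eq_mul, mul_ite, mul_one, mul_zero]
    rw [show (if l = a then c else 0) = if a = l then c else 0 by simp [eq_comm], ← this]
    exact Finset.sum_congr rfl fun m _ => mul_comm _ _
  have h2 : MA * MB.transpose = c • (1 : Matrix (Fin (Module.finrank K V)) (Fin (Module.finrank K V)) K) := by
    have h3 : (c⁻¹ • MB.transpose) * MA = 1 := by
      rw [Matrix.smul_mul, h1, smul_smul, inv_mul_cancel₀ hc, one_smul]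
    have h4 := mul_eq_one_comm.1 h3
    rw [Matrix.mul_smul] at h4
    calc MA * MB.transpose = c • (c⁻¹ • (MA * MB.transpose)) := by rw [smul_smul, mul_inv_cancel₀ hc, one_smul]
      _ = _ := by rw [h4]
  refine ⟨MA, MB.transpose, h2, (LinearMap.det_toMatrix e A).symm, ?_, (LinearMap.charpoly_toMatrix A e).symm, ?_⟩
  · rw [Matrix.det_transpose, LinearMap.det_toMatrix]
  · rw [Matrix.charpoly_transpose, LinearMap.charpoly_toMatrix]

lemma det_mul_det (β : W →ₗ[K] V →ₗ[K] K) (hβ : Function.Bijective β)
    (A : V →ₗ[K] V) (B : W →ₗ[K] W) {c : K} (hc : c ≠ 0) (h : ∀ w v, β (B w) (A v) = c * β w v) :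
    B.det * A.det = c ^ Module.finrank K V := by
  obtain ⟨M, N, hMN, hA, hB, -, -⟩ := exists_matrices β hβ A B hc h
  rw [hA, hB, mul_comm, ← Matrix.det_mul, hMN, Matrix.det_smul, Matrix.det_one, mul_one, Fintype.card_fin]

lemma det_smul_reverse_charpoly (β : W →ₗ[K] V →ₗ[K] K) (hβ : Function.Bijective β)
    (A : V →ₗ[K] V) (B : W →ₗ[K] W) {c : K} (hc : c ≠ 0) (h : ∀ w v, β (B w) (A v) = c * β w v) :
    A.det • B.charpoly.reverse = (-1 : K[X]) ^ Module.finrank K V * A.charpoly.comp (C c * X) := by
  obtain ⟨M, N, hMN, hA, -, hA', hB'⟩ := exists_matrices β hβ A B hc h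
  rw [hA, hA', hB', Matrix.reverse_charpoly, matrix_identity M N hMN, Fintype.card_fin]

end Groth.Misc10.PairingCharpoly
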