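import Mathlib

/-! The functional equation from the symmetry of the characteristic polynomials. -/

set_option autoImplicit false

universe u

namespace Groth.Misc10.ZetaFE

open Polynomial

variable {K : Type u} [Field K]

lemma sum_alternating {M : Type*} [AddCommGroup M] (f : ℕ → M) : ∀ n : ℕ,
    ∑ i ∈ Finset.range (2 * n + 1), (-1 : ℤ) ^ i • f i =
      ∑ i ∈ Finset.range (n + 1), f (2 * i) - ∑ i ∈ Finset.range n, f (2 * i + 1)
  | 0 => by simp
  | n + 1 => by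
    rw [show 2 * (n + 1) + 1 = 2 * n + 1 + 1 + 1 by ring, Finset.sum_range_succ, Finset.sum_range_succ,
      sum_alternating f n, Finset.sum_range_succ (fun i => f (2 * i)) (n + 1),
      Finset.sum_range_succ (fun i => f (2 * i + 1)) n, show 2 * n + 1 + 1 = 2 * (n + 1) by ring]
    rw [show ((-1 : ℤ)) ^ (2 * n + 1) = -1 from Odd.neg_one_pow ⟨n, rfl⟩,
      show ((-1 : ℤ)) ^ (2 * (n + 1)) = 1 from Even.neg_one_pow (even_two_mul _), neg_one_zsmul, one_zsmul]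
    abel

lemma aeval_reverse_inv (P : K[X]) (c : K) (hc : c ≠ 0) :
    Polynomial.aeval ((RatFunc.X : RatFunc K)⁻¹ * RatFunc.C c⁻¹) P.reverse =
      (RatFunc.C c * RatFunc.X) ^ (-(P.natDegree : ℤ)) *
        algebraMap K[X] (RatFunc K) (P.comp (Polynomial.C c * Polynomial.X)) := by
  set x : RatFunc K := RatFunc.C c * RatFunc.X
  have hx : x ≠ 0 := mul_ne_zero ((_root_.map_ne_zero _).2 hc) RatFunc.X_ne_zero
  haveI : Invertible x := invertibleOfNonzero hx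
  have ha : (RatFunc.X : RatFunc K)⁻¹ * RatFunc.C c⁻¹ = ⅟x := by
    rw [invOf_eq_inv, map_inv₀, mul_inv, mul_comm]
  have h := eval₂_reverse_mul_pow (algebraMap K (RatFunc K)) x P
  have hP : algebraMap K[X] (RatFunc K) (P.comp (Polynomial.C c * Polynomial.X)) = eval₂ (algebraMap K (RatFunc K)) x P := by
    rw [Polynomial.comp, Polynomial.hom_eval₂, map_mul, RatFunc.algebraMap_C, RatFunc.algebraMap_X]
    rfl
  rw [ha, hP, ← h, Polynomial.aeval_def, zpow_neg, zpow_natCast]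
  field_simp

lemma eval_prod (b : ℕ → ℕ) (g : ℕ → K) (P : ℕ → K[X]) (a : RatFunc K) (N : ℕ) (s t : ℕ → ℕ)
    (h : ∀ i, i < N → Polynomial.aeval a (P (s i)) =
      RatFunc.C (g (s i)) * RatFunc.X ^ (-(b (s i) : ℤ)) * algebraMap K[X] (RatFunc K) (P (t i)))
    (ht : ∀ i, i < N → t i = s (N - 1 - i)) :
    Polynomial.aeval a (∏ i ∈ Finset.range N, P (s i)) =
      RatFunc.C (∏ i ∈ Finset.range N, g (s i)) * RatFunc.X ^ (-((∑ i ∈ Finset.range N, b (s i) : ℕ) : ℤ)) *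
        algebraMap K[X] (RatFunc K) (∏ i ∈ Finset.range N, P (s i)) := by
  conv_rhs => rw [← Finset.prod_range_reflect (fun i => P (s i)) N]
  rw [map_prod, map_prod, map_prod, Finset.prod_congr rfl fun i hi => h i (Finset.mem_range.1 hi),
    Finset.prod_mul_distrib, Finset.prod_mul_distrib, Nat.cast_sum, ← Finset.sum_neg_distrib,
    Finset.prod_congr rfl fun i hi => congrArg (fun j => algebraMap K[X] (RatFunc K) (P j)) (ht i (Finset.mem_range.1 hi))]
  congr 2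
  induction Finset.range N using Finset.induction with
  | empty => simp
  | insert i S hi ih => rw [Finset.prod_insert hi, Finset.sum_insert hi, zpow_add₀ RatFunc.X_ne_zero, ih]

/-- The functional equation. -/
theorem functional_equation (n : ℕ) (q : K) (hq : q ≠ 0) (b : ℕ → ℕ) (d : ℕ → K) (χ : ℕ → K[X])
    (hdeg : ∀ i, i ≤ 2 * n → (χ i).natDegree = b i)
    (hb : ∀ i, i ≤ 2 * n → b (2 * n - i) = b i)
    (hd : ∀ i, i ≤ 2 * n → d (2 * n - i) * d i = q ^ (n * b i))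
    (hχ : ∀ i, i ≤ 2 * n → d i • (χ (2 * n - i)).reverse =
      (-1 : K[X]) ^ b i * (χ i).comp (C (q ^ n) * X))
    (hpar : Even ((n : ℤ) * ∑ i ∈ Finset.range (2 * n + 1), (-1 : ℤ) ^ i * (b i : ℤ))) :
    ∃ ε : K, (ε = 1 ∨ ε = -1) ∧
      Polynomial.aeval ((RatFunc.X : RatFunc K)⁻¹ * RatFunc.C (q ^ n)⁻¹)
          (∏ i ∈ Finset.range n, (χ (2 * i + 1)).reverse) /
        Polynomial.aeval ((RatFunc.X : RatFunc K)⁻¹ * RatFunc.C (q ^ n)⁻¹)
          (∏ i ∈ Finset.range (n + 1), (χ (2 * i)).reverse) =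
      RatFunc.C ε * RatFunc.C q ^ ((n : ℤ) * (∑ i ∈ Finset.range (2 * n + 1), (-1 : ℤ) ^ i * (b i : ℤ)) / 2) *
        (RatFunc.X : RatFunc K) ^ (∑ i ∈ Finset.range (2 * n + 1), (-1 : ℤ) ^ i * (b i : ℤ)) *
        (algebraMap K[X] (RatFunc K) (∏ i ∈ Finset.range n, (χ (2 * i + 1)).reverse) /
         algebraMap K[X] (RatFunc K) (∏ i ∈ Finset.range (n + 1), (χ (2 * i)).reverse)) := by
  have hqn : q ^ n ≠ 0 := pow_ne_zero _ hq
  have hd0 : ∀ i, i ≤ 2 * n → d i ≠ 0 := fun i hi h0 => pow_ne_zero (n * b i) hq (by rw [← hd i hi, h0, mul_zero])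
  let g : ℕ → K := fun i => (-1) ^ b i * d i / (q ^ n) ^ b i
  have hP : ∀ i, i ≤ 2 * n → Polynomial.aeval ((RatFunc.X : RatFunc K)⁻¹ * RatFunc.C (q ^ n)⁻¹) (χ i).reverse =
      RatFunc.C (g i) * RatFunc.X ^ (-(b i : ℤ)) * algebraMap K[X] (RatFunc K) (χ (2 * n - i)).reverse := by
    intro i hi
    rw [aeval_reverse_inv _ _ hqn, hdeg i hi,
      show (χ i).comp (C (q ^ n) * X) = (-1 : K[X]) ^ b i * (d i • (χ (2 * n - i)).reverse) by
        rw [hχ i hi, ← mul_assoc, ← mul_pow]; simp,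
      Polynomial.smul_eq_C_mul, map_mul, map_mul, RatFunc.algebraMap_C, mul_zpow,
      zpow_neg, zpow_natCast]
    simp only [g, map_div₀, map_mul, map_pow, map_neg, map_one]
    ring
  have ho := eval_prod b g (fun i => (χ i).reverse) ((RatFunc.X : RatFunc K)⁻¹ * RatFunc.C (q ^ n)⁻¹) n
    (fun i => 2 * i + 1) (fun i => 2 * n - (2 * i + 1)) (fun i hi => hP _ (by omega)) (fun i hi => by omega)
  have he := eval_prod b g (fun i => (χ i).reverse) ((RatFunc.X : RatFunc K)⁻¹ * RatFunc.C (q ^ n)⁻¹) (n + 1)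
    (fun i => 2 * i) (fun i => 2 * n - 2 * i) (fun i hi => hP _ (by omega)) (fun i hi => by omega)
  rw [ho, he]
  set Go := ∏ i ∈ Finset.range n, g (2 * i + 1)
  set Ge := ∏ i ∈ Finset.range (n + 1), g (2 * i)
  set Bo := ∑ i ∈ Finset.range n, b (2 * i + 1) with hBo
  set Be := ∑ i ∈ Finset.range (n + 1), b (2 * i) with hBe
  have hsq : ∀ (N : ℕ) (s : ℕ → ℕ), (∀ i, i < N → s i ≤ 2 * n ∧ s (N - 1 - i) = 2 * n - s i) →
      (∏ i ∈ Finset.range N, g (s i)) ^ 2 = ((q ^ n) ^ (∑ i ∈ Finset.range N, b (s i)))⁻¹ := by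
    intro N s hs
    rw [sq]
    nth_rewrite 2 [← Finset.prod_range_reflect (fun i => g (s i)) N]
    rw [← Finset.prod_mul_distrib, ← Finset.prod_pow_eq_pow_sum, ← Finset.prod_inv_distrib]
    refine Finset.prod_congr rfl fun i hi => ?_
    obtain ⟨h1, h2⟩ := hs i (Finset.mem_range.1 hi)
    rw [h2]
    show (-1) ^ b (s i) * d (s i) / (q ^ n) ^ b (s i) * ((-1) ^ b (2 * n - s i) * d (2 * n - s i) / (q ^ n) ^ b (2 * n - s i)) = _
    rw [hb _ h1]
    have h3 : d (s i) * d (2 * n - s i) = (q ^ n) ^ b (s i) := by rw [mul_comm, hd _ h1, pow_mul]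
    have h4 : ((-1 : K) ^ b (s i)) * (-1) ^ b (s i) = 1 := by rw [← mul_pow]; simp
    field_simp
    linear_combination d (s i) * d (2 * n - s i) * h4 + h3
  have hGo : Go ^ 2 = ((q ^ n) ^ Bo)⁻¹ := hsq n (fun i => 2 * i + 1) fun i hi => ⟨by omega, by omega⟩
  have hGe : Ge ^ 2 = ((q ^ n) ^ Be)⁻¹ := hsq (n + 1) (fun i => 2 * i) fun i hi => ⟨by omega, by omega⟩
  have hE : (∑ i ∈ Finset.range (2 * n + 1), (-1 : ℤ) ^ i * (b i : ℤ)) = (Be : ℤ) - Bo := by
    have := sum_alternating (fun i => (b i : ℤ)) n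
    simp only [smul_eq_mul] at this
    rw [this, hBe, hBo]; push_cast; rfl
  rw [hE] at hpar ⊢
  obtain ⟨m, hm⟩ := hpar
  have hm' : (n : ℤ) * ((Be : ℤ) - Bo) / 2 = m := by omega
  rw [hm']
  refine ⟨Go / Ge / q ^ m, mul_self_eq_one_iff.1 ?_, ?_⟩
  · have h1 : Go / Ge * (Go / Ge) = q ^ m * q ^ m := by
      rw [← zpow_add₀ hq, ← hm, div_mul_div_comm, ← sq, ← sq, hGo, hGe, inv_div_inv, mul_sub, zpow_sub₀ hq,
        ← pow_mul, ← pow_mul, ← zpow_natCast q (n * Be), ← zpow_natCast q (n * Bo)]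
      push_cast; rfl
    rw [div_mul_div_comm, h1, div_self]
    exact mul_ne_zero (zpow_ne_zero _ hq) (zpow_ne_zero _ hq)
  · have hqm : RatFunc.C q ^ m ≠ 0 := zpow_ne_zero _ ((_root_.map_ne_zero _).2 hq)
    rw [map_div₀, map_div₀, map_zpow₀, sub_eq_add_neg, zpow_add₀ RatFunc.X_ne_zero, zpow_natCast,
      zpow_neg (RatFunc.X : RatFunc K) (Bo : ℤ), zpow_neg (RatFunc.X : RatFunc K) (Be : ℤ), zpow_natCast, zpow_natCast]
    field_simp

end Groth.Misc10.ZetaFE
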